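import Mathlib
import Groth.Agent.FComplLib.AdicUnit

/-! Composition of rig-flatness. -/

universe u

namespace Groth.Agent.RigPt7

open AdicCompletion (evalₐ)

/-- Ring homs out of a completion are determined on the dense subring as soon as the target is separated. -/
theorem hom_ext_compl {S R : Type u} [CommRing S] [CommRing R] (J : Ideal S) (hJ : J.FG) (K : Ideal R)
    [IsHausdorff K R] (u v : AdicCompletion J S →+* R)
    (huv : ∀ s : S, u (algebraMap S _ s) = v (algebraMap S _ s))
    (hu : J.map (u.comp (algebraMap S _)) ≤ K) : u = v := by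
  refine RingHom.ext fun x => sub_eq_zero.mp (IsHausdorff.haus ‹IsHausdorff K R› _ fun n => ?_)
  rw [SModEq.zero, smul_eq_mul, Ideal.mul_top]
  obtain ⟨z, hz⟩ := Ideal.Quotient.mk_surjective (evalₐ J n x)
  have h1 : x - algebraMap S _ z ∈ (J ^ n).map (algebraMap S (AdicCompletion J S)) := by
    rw [← FComplLib.evalₐ_eq_zero_iff J hJ, map_sub, FComplLib.evalₐ_algebraMap, hz, sub_self]
  have hvu : v.comp (algebraMap S (AdicCompletion J S)) = u.comp (algebraMap S _) := (RingHom.ext huv).symm
  have key : ∀ w : AdicCompletion J S →+* R, w.comp (algebraMap S _) = u.comp (algebraMap S _) →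
      w (x - algebraMap S _ z) ∈ K ^ n := fun w hw => by
    have := Ideal.mem_map_of_mem w h1
    rw [Ideal.map_map, hw, Ideal.map_pow] at this
    exact Ideal.pow_right_mono hu n this
  have := Ideal.sub_mem _ (key u rfl) (key v hvu)
  simpa [huv] using this

/-- Flatness at a prime propagates to the generalizations. -/
theorem flat_comp_of_le {A B M : Type u} [CommRing A] [CommRing B] [CommRing M] (f : A →+* B) (g : B →+* M)
    (q : Ideal B) [q.IsPrime] (hf : ((algebraMap B (Localization.AtPrime q)).comp f).Flat)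
    (hg : g.Flat) (hq : ∀ b : B, b ∉ q → IsUnit (g b)) : (g.comp f).Flat := by
  let Bq := Localization.AtPrime q
  let h : Bq →+* M := IsLocalization.lift (M := q.primeCompl) (fun b => hq b.1 b.2)
  have hcomp : h.comp (algebraMap B Bq) = g := IsLocalization.lift_comp (M := q.primeCompl) (fun b => hq b.1 b.2)
  have hh : h.Flat := by
    letI := g.toAlgebra
    letI := h.toAlgebra
    haveI : IsScalarTower B Bq M := IsScalarTower.of_algebraMap_eq' hcomp.symm
    haveI : Module.Flat B M := hg
    exact (Module.flat_iff_of_isLocalization (S := Bq) q.primeCompl M).mpr inferInstance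
  rw [← hcomp, RingHom.comp_assoc]
  exact RingHom.Flat.comp hf hh

/-- Rig-flatness composes, for abstract towers of completions. -/
theorem flat_comp_completions {TA TB TC : Type u} [CommRing TA] [CommRing TB] [CommRing TC]
    [IsNoetherianRing TA] [IsNoetherianRing TB] [IsNoetherianRing TC]
    (JA : Ideal TA) (JB : Ideal TB) (JC : Ideal TC) (u : TA →+* TB) (v : TB →+* TC)
    (hu : JA.map u = JB) (hv : JB.map v = JC)
    (hAB : ∀ ψ : AdicCompletion JA TA →+* AdicCompletion JB TB,
      ψ.comp (algebraMap TA _) = (algebraMap TB _).comp u → ∀ q : PrimeSpectrum (AdicCompletion JB TB),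
      (¬ JB.map (algebraMap TB _) ≤ q.asIdeal ∧
        ∀ y, q ≤ y → ¬ JB.map (algebraMap TB _) ≤ y.asIdeal → y = q) →
      ((algebraMap (AdicCompletion JB TB) (Localization.AtPrime q.asIdeal)).comp ψ).Flat)
    (hBC : ∀ ψ : AdicCompletion JB TB →+* AdicCompletion JC TC,
      ψ.comp (algebraMap TB _) = (algebraMap TC _).comp v → ∀ q : PrimeSpectrum (AdicCompletion JC TC),
      (¬ JC.map (algebraMap TC _) ≤ q.asIdeal ∧
        ∀ y, q ≤ y → ¬ JC.map (algebraMap TC _) ≤ y.asIdeal → y = q) →
      ((algebraMap (AdicCompletion JC TC) (Localization.AtPrime q.asIdeal)).comp ψ).Flat)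
    (ψe : AdicCompletion JA TA →+* AdicCompletion JC TC)
    (hψe : ψe.comp (algebraMap TA _) = (algebraMap TC _).comp (v.comp u))
    (qe : PrimeSpectrum (AdicCompletion JC TC))
    (hqe : ¬ JC.map (algebraMap TC _) ≤ qe.asIdeal ∧
      ∀ y, qe ≤ y → ¬ JC.map (algebraMap TC _) ≤ y.asIdeal → y = qe) :
    ((algebraMap (AdicCompletion JC TC) (Localization.AtPrime qe.asIdeal)).comp ψe).Flat := by
  let CB := AdicCompletion JB TB
  let CC := AdicCompletion JC TC
  let ψf := FSch.complMap JA JB u hu.le
  let ψg := FSch.complMap JB JC v hv.le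
  have hf : ψf.comp (algebraMap TA _) = (algebraMap TB _).comp u :=
    RingHom.ext (FComplLib.complMap_algebraMap JA JB u hu.le)
  have hg : ψg.comp (algebraMap TB _) = (algebraMap TC _).comp v :=
    RingHom.ext (FComplLib.complMap_algebraMap JB JC v hv.le)
  have : IsNoetherianRing CB := FComplLib.isNoetherianRing_adicCompletion _
  have hCC : IsAdicComplete (JC.map (algebraMap TC CC)) CC :=
    AdicCompletion.isAdicComplete_self JC (IsNoetherian.noetherian _)
  have hA : (ψg.comp ψf).comp (algebraMap TA _) = ψe.comp (algebraMap TA _) := by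
    rw [hψe, RingHom.comp_assoc, hf, ← RingHom.comp_assoc, hg, RingHom.comp_assoc]
  have hcomp : ψe = ψg.comp ψf := by
    refine hom_ext_compl JA (IsNoetherian.noetherian _) (JC.map (algebraMap TC CC)) _ _
      (fun s => (RingHom.congr_fun hA s).symm) ?_
    have h := congrArg (Ideal.map (algebraMap TC CC)) ((Ideal.map_map u v).symm.trans
      ((congrArg (Ideal.map v) hu).trans hv))
    rw [Ideal.map_map] at h
    rw [hψe]
    exact h.le
  let S : Set (Ideal CB) := {P | P.IsPrime ∧ qe.asIdeal.comap ψg ≤ P ∧ ¬ JB.map (algebraMap TB CB) ≤ P}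
  have hne : S.Nonempty := by
    refine ⟨qe.asIdeal.comap ψg, Ideal.IsPrime.comap ψg, le_rfl, fun hle => hqe.1 ?_⟩
    rw [← Ideal.map_le_iff_le_comap, Ideal.map_map, hg, ← Ideal.map_map, hv] at hle
    exact hle
  obtain ⟨P, ⟨hPp, hPle, hPI⟩, hPmax⟩ := WellFounded.has_min (wellFounded_gt (α := Ideal CB)) S hne
  have hflat := hAB ψf hf ⟨P, hPp⟩ ⟨hPI, fun y hy hyI => PrimeSpectrum.ext (by
    by_contra hne'
    exact hPmax y.asIdeal ⟨y.isPrime, hPle.trans hy, hyI⟩ (lt_of_le_of_ne hy (Ne.symm hne')))⟩
  have hflat' := hBC ψg hg qe hqe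
  rw [hcomp, ← RingHom.comp_assoc]
  exact flat_comp_of_le ψf ((algebraMap CC (Localization.AtPrime qe.asIdeal)).comp ψg) P hflat hflat'
    fun b hb => IsLocalization.map_units (M := qe.asIdeal.primeCompl) (Localization.AtPrime qe.asIdeal)
      ⟨ψg b, fun h => hb (hPle h)⟩

end Groth.Agent.RigPt7
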