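import Mathlib
import Groth.Agent.S9604
import Groth.Agent.Adic7.Basic

/-! Non-open primes maximal among non-open primes in an adic Noetherian ring. -/

universe u

namespace Groth.Agent.RigPt7

/-- A Noetherian domain all whose nonzero primes contain a fixed nonzero element has dimension ≤ 1. -/
theorem krullDimLE_one_of_mem_all {R : Type u} [CommRing R] [IsDomain R] [IsNoetherianRing R] {a : R} (ha0 : a ≠ 0)
    (h : ∀ P : Ideal R, P.IsPrime → P ≠ ⊥ → a ∈ P) : Ring.KrullDimLE 1 R := by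
  refine Ring.krullDimLE_one_iff_of_noZeroDivisors.mpr fun P hP0 hP => ?_
  obtain ⟨Q, hQ, hPQ⟩ := Ideal.exists_le_maximal P hP.ne_top
  suffices P = Q from this ▸ hQ
  by_contra hne
  have hlt : P < Q := lt_of_le_of_ne hPQ hne
  have hfin := Ideal.finite_minimalPrimes_of_isNoetherianRing R (Ideal.span {a})
  have hsub : ¬ ((Q : Set R) ⊆ ⋃ S ∈ (↑hfin.toFinset : Set (Ideal R)), (S : Set R)) := fun hss => by
    obtain ⟨S, hS, hQS⟩ := (Ideal.subset_union_prime (f := fun S : Ideal R => S) ⊥ ⊥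
      (fun S hS _ _ => (hfin.mem_toFinset.mp hS).isPrime)).mp hss
    rw [hfin.mem_toFinset] at hS
    exact (lt_of_lt_of_le hlt hQS).not_ge (hS.2 ⟨hP, (Ideal.span_singleton_le_iff_mem P).mpr (h P hP hP0)⟩ (hPQ.trans hQS))
  obtain ⟨b, hbQ, hb⟩ := Set.not_subset.mp hsub
  have := hQ.isPrime
  obtain ⟨T, hT, hTQ⟩ := Ideal.exists_minimalPrimes_le ((Ideal.span_singleton_le_iff_mem Q).mpr hbQ)
  have := hT.isPrime
  have hbT : b ∈ T := (Ideal.span_singleton_le_iff_mem T).mp hT.le
  obtain ⟨P', hP', hP'P⟩ := Ideal.exists_minimalPrimes_le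
    (I := Ideal.span {a}) (J := P) ((Ideal.span_singleton_le_iff_mem P).mpr (h P hP hP0))
  have hb0 : b ≠ 0 := fun hb' => hb (Set.mem_biUnion (hfin.mem_toFinset.mpr hP') (hb' ▸ P'.zero_mem))
  have hT0 : T ≠ ⊥ := fun hT' => hb0 (by simpa [hT'] using hbT)
  obtain ⟨R', hR', hR'T⟩ := Ideal.exists_minimalPrimes_le
    (I := Ideal.span {a}) (J := T) ((Ideal.span_singleton_le_iff_mem T).mpr (h T inferInstance hT0))
  have := hR'.isPrime
  have hRlt : R' < T := lt_of_le_of_ne hR'T fun he =>
    hb (Set.mem_biUnion (hfin.mem_toFinset.mpr hR') (he ▸ hbT))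
  have ha : a ∈ R' := (Ideal.span_singleton_le_iff_mem R').mp hR'.le
  have h1 := Ideal.height_le_one_of_isPrincipal_of_mem_minimalPrimes (Ideal.span {b}) T hT
  have h2 := Ideal.height_strict_mono_of_isPrime_of_isPrime hRlt
  have h3 : R'.height = 0 := by
    have := lt_of_lt_of_le h2 h1
    simpa [ENat.lt_one_iff_eq_zero] using this
  have hlt' : (⊥ : Ideal R) < R' := bot_lt_iff_ne_bot.mpr fun he => ha0 (by simpa [he] using ha)
  have := Ideal.height_strict_mono_of_isPrime_of_isPrime hlt'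
  simp [h3] at this

/-- In an adically complete domain there are no idempotents to separate maximal ideals: complete domains
with zero-dimensional reduction have a unique maximal ideal, the radical of the ideal. -/
theorem eq_radical_of_isMaximal {R : Type u} [CommRing R] [IsDomain R] [IsNoetherianRing R] (J : Ideal R)
    [IsAdicComplete J R] (hJ : J ≠ ⊥) [Ring.KrullDimLE 1 R] (m : Ideal R) (hm : m.IsMaximal) :
    m = J.radical := by
  have hJm : ∀ m' : Ideal R, m'.IsMaximal → J ≤ m' := fun m' hm' =>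
    (IsAdicComplete.le_jacobson_bot J).trans (by rw [Ideal.jacobson]; exact sInf_le ⟨bot_le, hm'⟩)
  refine le_antisymm ?_ (hm.isPrime.radical_le_iff.mpr (hJm m hm))
  rw [Ideal.radical_eq_sInf]
  refine le_sInf fun P ⟨hJP, hP⟩ => ?_
  have hPmax : P.IsMaximal := hP.isMaximal_of_ne_bot fun he => hJ (le_bot_iff.mp (he ▸ hJP))
  by_contra hmP
  -- the artinian quotient `R ⧸ J` would have a nontrivial idempotent
  have hKD : Ring.KrullDimLE 0 (R ⧸ J) := Ring.KrullDimLE.mk₀ fun q hq => by
    have hle : J ≤ q.comap (Ideal.Quotient.mk J) := fun x hx => by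
      simp [Ideal.mem_comap, Ideal.Quotient.eq_zero_iff_mem.mpr hx]
    have := (hq.comap (Ideal.Quotient.mk J)).isMaximal_of_ne_bot fun he => hJ (le_bot_iff.mp (he ▸ hle))
    rw [← Ideal.map_comap_of_surjective _ Ideal.Quotient.mk_surjective q]
    exact Ideal.IsMaximal.map_of_surjective_of_ker_le Ideal.Quotient.mk_surjective (by rwa [Ideal.mk_ker])
  have : IsArtinianRing (R ⧸ J) := isArtinianRing_iff_krullDimLE_zero.mpr hKD
  have hidem : ∀ e : R ⧸ J, IsIdempotentElem e → e = 0 ∨ e = 1 := fun e he => by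
    obtain ⟨a₀, rfl⟩ := Ideal.Quotient.mk_surjective e
    have hu : IsUnit (Ideal.Quotient.mk J ((Polynomial.derivative (Polynomial.X ^ 2 - Polynomial.X : Polynomial R)).eval a₀)) := by
      refine IsUnit.of_mul_eq_one (Ideal.Quotient.mk J ((Polynomial.derivative (Polynomial.X ^ 2 - Polynomial.X : Polynomial R)).eval a₀)) ?_
      simp [map_ofNat]
      linear_combination (4 : R ⧸ J) * he.eq
    obtain ⟨a, hroot, ha⟩ := HenselianRing.is_henselian (I := J) (Polynomial.X ^ 2 - Polynomial.X : Polynomial R)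
      (Polynomial.monic_X_pow_sub (by simp)) a₀ (Ideal.Quotient.eq_zero_iff_mem.mp (by simp [pow_two, he.eq])) hu
    have : a * (a - 1) = 0 := by
      have := hroot
      simp [Polynomial.IsRoot] at this
      linear_combination this
    have ha' : Ideal.Quotient.mk J a₀ = Ideal.Quotient.mk J a := (Ideal.Quotient.eq.mpr ha).symm
    rcases mul_eq_zero.mp this with h | h
    · exact Or.inl (by rw [ha', h, map_zero])
    · exact Or.inr (by rw [ha', sub_eq_zero.mp h, map_one])
  -- hence the quotient has a single prime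
  have hone : ∀ x y : PrimeSpectrum (R ⧸ J), x = y := fun x y => by
    have hclop : IsClopen ({x} : Set (PrimeSpectrum (R ⧸ J))) := isClopen_discrete _
    obtain ⟨e, he, hxe⟩ := PrimeSpectrum.exists_idempotent_basicOpen_eq_of_isClopen hclop
    rcases hidem e he with rfl | rfl
    · have : x ∈ (PrimeSpectrum.basicOpen (0 : R ⧸ J) : Set (PrimeSpectrum (R ⧸ J))) := hxe ▸ Set.mem_singleton x
      simp at this
    · have : y ∈ ({x} : Set (PrimeSpectrum (R ⧸ J))) := by rw [hxe]; simp
      exact this.symm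
  have hsurj := Ideal.Quotient.mk_surjective (I := J)
  have hk : ∀ Q : Ideal R, J ≤ Q → RingHom.ker (Ideal.Quotient.mk J) ≤ Q := fun Q h => by rwa [Ideal.mk_ker]
  have := hone ⟨m.map (Ideal.Quotient.mk J), (hm.map_of_surjective_of_ker_le hsurj (hk m (hJm m hm))).isPrime⟩
    ⟨P.map (Ideal.Quotient.mk J), (hPmax.map_of_surjective_of_ker_le hsurj (hk P hJP)).isPrime⟩
  have := congrArg (fun z : PrimeSpectrum (R ⧸ J) => z.asIdeal.comap (Ideal.Quotient.mk J)) this
  simp only [Ideal.comap_map_of_surjective _ hsurj, ← RingHom.ker_eq_comap_bot, Ideal.mk_ker,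
    sup_eq_left.mpr hJP, sup_eq_left.mpr (hJm m hm)] at this
  exact hmP this.le

theorem tfae_rig_closed {A : Type u} [CommRing A] [IsNoetherianRing A] (I : Ideal A) [IsAdicComplete I A]
    (q : PrimeSpectrum A) : List.TFAE [¬ I ≤ q.asIdeal ∧ ∀ q' : PrimeSpectrum A, q ≤ q' → ¬ I ≤ q'.asIdeal → q' = q,
      ringKrullDim (A ⧸ q.asIdeal) = 1 ∧ ¬ I ≤ q.asIdeal,
      ringKrullDim (A ⧸ q.asIdeal) = 1 ∧ (∀ m : Ideal (A ⧸ q.asIdeal), m.IsMaximal →
        m = (I.map (Ideal.Quotient.mk q.asIdeal)).radical) ∧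
        IsAdicComplete (I.map (Ideal.Quotient.mk q.asIdeal)).radical (A ⧸ q.asIdeal)] := by
  let R := A ⧸ q.asIdeal
  let J : Ideal R := I.map (algebraMap A R)
  have hc : IsAdicComplete J R := by
    have : IsAdicComplete I R :=
      { toIsHausdorff := IsHausdorff.of_le_jacobson I R (IsAdicComplete.le_jacobson_bot I)
        toIsPrecomplete := Adic7.isPrecomplete_of_finite I R }
    exact (IsAdicComplete.map_algebraMap_iff (S := R) I R).mpr this
  have hJ0 : ¬ I ≤ q.asIdeal → J ≠ ⊥ := fun h he => h fun x hx => Ideal.Quotient.eq_zero_iff_mem.mp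
    (show algebraMap A R x = 0 from Ideal.mem_bot.mp (he ▸ Ideal.mem_map_of_mem (algebraMap A R) hx))
  tfae_have 1 → 2 := fun ⟨hI, hmax⟩ => by
    refine ⟨?_, hI⟩
    obtain ⟨a, haI, haq⟩ := SetLike.not_le_iff_exists.mp hI
    have ha0 : algebraMap A R a ≠ 0 := fun h => haq (Ideal.Quotient.eq_zero_iff_mem.mp h)
    have hle : Ring.KrullDimLE 1 R := krullDimLE_one_of_mem_all ha0 fun P hP hP0 => by
      by_contra haP
      have h1 : q ≤ ⟨P.comap (algebraMap A R), hP.comap _⟩ := fun x hx => by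
        show algebraMap A R x ∈ P
        rw [show algebraMap A R x = 0 from Ideal.Quotient.eq_zero_iff_mem.mpr hx]
        exact P.zero_mem
      have h2 := congrArg PrimeSpectrum.asIdeal (hmax _ h1 fun hle => haP (hle haI))
      refine hP0 (le_bot_iff.mp fun z hz => ?_)
      obtain ⟨x, rfl⟩ := Ideal.Quotient.mk_surjective z
      have : x ∈ q.asIdeal := h2 ▸ hz
      exact (Ideal.Quotient.eq_zero_iff_mem.mpr this)
    refine le_antisymm (by exact_mod_cast Ring.krullDimLE_iff.mp hle) ?_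
    by_contra hlt
    have : Ring.KrullDimLE 0 R := Ring.krullDimLE_iff.mpr (ENat.WithBot.lt_add_one_iff.mp (by simpa using not_le.mp hlt))
    have hf : IsField R := Ring.KrullDimLE.isField_of_isDomain
    let := hf.toField
    have : J = ⊤ := (eq_bot_or_eq_top J).resolve_left (hJ0 hI)
    obtain ⟨m, hm⟩ := Ideal.exists_maximal R
    exact hm.ne_top (top_le_iff.mp (this ▸ (IsAdicComplete.le_jacobson_bot J).trans
      (by rw [Ideal.jacobson]; exact sInf_le ⟨bot_le, hm⟩)))
  tfae_have 2 → 3 := fun ⟨hd, hI⟩ => by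
    have : Ring.KrullDimLE 1 R := Ring.krullDimLE_iff.mpr (by exact_mod_cast hd.le)
    refine ⟨hd, fun m hm => eq_radical_of_isMaximal J (hJ0 hI) m hm, ?_⟩
    obtain ⟨n, hn⟩ := Ideal.exists_radical_pow_le_of_fg J (IsNoetherian.noetherian _)
    exact (S9604.result J.radical J (n + 1) 1 (by omega) one_pos
      ((Ideal.pow_le_pow_right (Nat.le_succ n)).trans hn) (by simpa using Ideal.le_radical) R).mpr hc
  tfae_have 3 → 1 := fun ⟨hd, hm, _⟩ => by
    have : Ring.KrullDimLE 1 R := Ring.krullDimLE_iff.mpr (by exact_mod_cast hd.le)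
    have hI : ¬ I ≤ q.asIdeal := fun h => by
      have hJ : J = ⊥ := (Ideal.map_eq_bot_iff_le_ker _).mpr (by rwa [Ideal.Quotient.algebraMap_eq, Ideal.mk_ker])
      obtain ⟨m, hm'⟩ := Ideal.exists_maximal R
      have hm0 : m = ⊥ := by
        rw [hm m hm', show I.map (Ideal.Quotient.mk q.asIdeal) = ⊥ from hJ]
        exact (Ideal.isPrime_bot).radical
      have hf : IsField R := Ring.isField_iff_maximal_bot.mpr (hm0 ▸ hm')
      rw [ringKrullDim_eq_zero_of_isField hf] at hd
      exact zero_ne_one hd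
    refine ⟨hI, fun q' hle hIq' => ?_⟩
    by_contra hne
    have hsurj := Ideal.Quotient.mk_surjective (I := q.asIdeal)
    have hker : RingHom.ker (Ideal.Quotient.mk q.asIdeal) ≤ q'.asIdeal := by rw [Ideal.mk_ker]; exact hle
    have hP : (q'.asIdeal.map (Ideal.Quotient.mk q.asIdeal)).IsPrime :=
      Ideal.map_isPrime_of_surjective hsurj hker
    have hcm : (q'.asIdeal.map (Ideal.Quotient.mk q.asIdeal)).comap (Ideal.Quotient.mk q.asIdeal) = q'.asIdeal := by
      rw [Ideal.comap_map_of_surjective _ hsurj, ← RingHom.ker_eq_comap_bot, sup_eq_left.mpr hker]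
    have hP0 : q'.asIdeal.map (Ideal.Quotient.mk q.asIdeal) ≠ ⊥ := fun he => hne (PrimeSpectrum.ext (by
      rw [← hcm, he, ← RingHom.ker_eq_comap_bot, Ideal.mk_ker]))
    refine hIq' (le_trans ?_ hcm.le)
    rw [← Ideal.map_le_iff_le_comap, hm _ (hP.isMaximal_of_ne_bot hP0)]
    exact Ideal.le_radical
  tfae_finish

end Groth.Agent.RigPt7
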