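import Mathlib
import Groth.Agent.FComplLib.AdicUnit
import Groth.Agent.Adic7.Misc

/-! A prime `p` and the completed localization at an element invertible modulo `p`. -/

universe u

namespace Groth.Agent.RigPt7

open AdicCompletion (evalₐ)

theorem ker_complMap_eq {A : Type u} [CommRing A] [IsNoetherianRing A] (I : Ideal A) [IsAdicComplete I A]
    (p : Ideal A) [p.IsPrime] (f : A) (hf : IsUnit (Ideal.Quotient.mk p f))
    (T : Type u) [CommRing T] [Algebra A T] [IsLocalization.Away f T] :
    (p.map (algebraMap A (AdicCompletion (I.map (algebraMap A T)) T))).IsPrime ∧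
      Function.Bijective (Ideal.quotientMap (p.map (algebraMap A (AdicCompletion (I.map (algebraMap A T)) T)))
        (algebraMap A (AdicCompletion (I.map (algebraMap A T)) T)) Ideal.le_comap_map) := by
  have : IsNoetherianRing T := IsLocalization.isNoetherianRing (Submonoid.powers f) T inferInstance
  let J := I.map (algebraMap A T)
  let C := AdicCompletion J T
  have : IsNoetherianRing C := FComplLib.isNoetherianRing_adicCompletion _
  have hC : IsAdicComplete (J.map (algebraMap T C)) C :=
    AdicCompletion.isAdicComplete_self _ (IsNoetherian.noetherian J)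
  let R := A ⧸ p
  let K : Ideal R := I.map (algebraMap A R)
  have hR : IsAdicComplete K R := by
    have : IsAdicComplete I R :=
      { toIsHausdorff := IsHausdorff.of_le_jacobson I R (IsAdicComplete.le_jacobson_bot I)
        toIsPrecomplete := Adic7.isPrecomplete_of_finite I R }
    exact (IsAdicComplete.map_algebraMap_iff (S := R) I R).mpr this
  let φ : T →+* R := IsLocalization.Away.lift f (g := Ideal.Quotient.mk p) hf
  have hφ : ∀ a, φ (algebraMap A T a) = Ideal.Quotient.mk p a := IsLocalization.Away.lift_eq f hf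
  have hJK : J.map φ ≤ K := by
    rw [Ideal.map_map, show φ.comp (algebraMap A T) = algebraMap A R from RingHom.ext hφ]
  let ψ : C →+* R := ((AdicCompletion.ofAlgEquiv K).symm : AdicCompletion K R →+* R).comp
    (FSch.complMap J K φ hJK)
  have hψT : ∀ z : T, ψ (algebraMap T C z) = φ z := fun z => by
    show (AdicCompletion.ofAlgEquiv K).symm (FSch.complMap J K φ hJK (algebraMap T C z)) = φ z
    rw [FComplLib.complMap_algebraMap]
    exact (AdicCompletion.ofAlgEquiv K).symm.commutes (φ z)
  have hψ : ∀ a : A, ψ (algebraMap A C a) = Ideal.Quotient.mk p a := fun a => by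
    rw [IsScalarTower.algebraMap_apply A T C, hψT, hφ]
  let P := p.map (algebraMap A C)
  have hP : P ≤ RingHom.ker ψ := Ideal.map_le_iff_le_comap.mpr fun a ha => by
    show ψ (algebraMap A C a) = 0
    rw [hψ, Ideal.Quotient.eq_zero_iff_mem.mpr ha]
  -- every element is congruent to an element of `A` modulo `P + J^n`
  have key : ∀ (c : C) (n : ℕ), ∃ a : A, c - algebraMap A C a ∈ P ⊔ (J.map (algebraMap T C)) ^ n := fun c n => by
    obtain ⟨z, hz⟩ := Ideal.Quotient.mk_surjective (evalₐ J n c)
    have h1 : c - algebraMap T C z ∈ (J.map (algebraMap T C)) ^ n := by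
      rw [← Ideal.map_pow, ← FComplLib.evalₐ_eq_zero_iff J (IsNoetherian.noetherian J), map_sub,
        FComplLib.evalₐ_algebraMap, hz, sub_self]
    obtain ⟨k, a, ha⟩ := IsLocalization.Away.surj f z
    obtain ⟨g, hg⟩ := hf.exists_right_inv
    obtain ⟨g, rfl⟩ := Ideal.Quotient.mk_surjective g
    refine ⟨a * g ^ k, ?_⟩
    have h2 : z - algebraMap A T (a * g ^ k) ∈ p.map (algebraMap A T) := by
      have hm : (f * g) ^ k - 1 ∈ p := by
        rw [← Ideal.Quotient.eq_zero_iff_mem]
        simp [hg]
      have : z - algebraMap A T (a * g ^ k) = -(z * algebraMap A T ((f * g) ^ k - 1)) := by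
        simp only [map_sub, map_mul, map_pow, map_one, mul_pow, ← ha]
        ring
      rw [this]
      exact neg_mem (Ideal.mul_mem_left _ _ (Ideal.mem_map_of_mem _ hm))
    have h3 : algebraMap T C z - algebraMap A C (a * g ^ k) ∈ P := by
      rw [IsScalarTower.algebraMap_apply A T C, ← map_sub]
      have := Ideal.mem_map_of_mem (algebraMap T C) h2
      rwa [Ideal.map_map, ← IsScalarTower.algebraMap_eq] at this
    have := Ideal.add_mem _ (Ideal.mem_sup_left (T := (J.map (algebraMap T C)) ^ n) h3) (Ideal.mem_sup_right h1)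
    simpa using this
  have hker : RingHom.ker ψ = P := by
    refine le_antisymm (fun c hc => ?_) hP
    have htf := Adic7.le_jacobson_tfae C (J.map (algebraMap T C))
    have h0 := (htf.out 0 3 (by rfl) (by rfl)).mp (IsAdicComplete.le_jacobson_bot _)
    have h4 := h0 C inferInstance P
    rw [← h4]
    refine Submodule.mem_iInf _ |>.mpr fun n => ?_
    rw [smul_eq_mul, Ideal.mul_top]
    obtain ⟨a, ha⟩ := key c n
    have h5 : Ideal.Quotient.mk p a ∈ (I ^ n).map (Ideal.Quotient.mk p) := by
      have h6 := Ideal.mem_map_of_mem ψ ha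
      rw [Ideal.map_sup, (Ideal.map_eq_bot_iff_le_ker ψ).mpr hP, bot_sup_eq, Ideal.map_pow, Ideal.map_map,
        show ψ.comp (algebraMap T C) = φ from RingHom.ext hψT, map_sub, RingHom.mem_ker.mp hc, zero_sub,
        neg_mem_iff, hψ] at h6
      rw [Ideal.map_pow]
      exact Ideal.pow_right_mono hJK n h6
    rw [← Ideal.mem_comap, Ideal.comap_map_of_surjective _ Ideal.Quotient.mk_surjective,
      ← RingHom.ker_eq_comap_bot, Ideal.mk_ker] at h5
    obtain ⟨x, hx, y, hy, rfl⟩ := Submodule.mem_sup.mp h5
    have h7 : algebraMap A C (x + y) ∈ P ⊔ (J.map (algebraMap T C)) ^ n := by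
      rw [map_add]
      refine Ideal.add_mem _ (Ideal.mem_sup_right ?_) (Ideal.mem_sup_left (Ideal.mem_map_of_mem _ hy))
      rw [Ideal.map_map, ← IsScalarTower.algebraMap_eq, ← Ideal.map_pow]
      exact Ideal.mem_map_of_mem _ hx
    simpa using Ideal.add_mem _ ha h7
  refine ⟨?_, ?_, fun c => ?_⟩
  · show P.IsPrime
    rw [← hker]
    exact RingHom.ker_isPrime ψ
  · refine Ideal.quotientMap_injective' fun a ha => ?_
    have : ψ (algebraMap A C a) = 0 := RingHom.mem_ker.mp (hker.ge ha)
    rw [hψ] at this
    exact Ideal.Quotient.eq_zero_iff_mem.mp this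
  · obtain ⟨c, rfl⟩ := Ideal.Quotient.mk_surjective c
    obtain ⟨a, ha⟩ := Ideal.Quotient.mk_surjective (ψ c)
    refine ⟨Ideal.Quotient.mk p a, ?_⟩
    rw [Ideal.quotientMap_mk]
    refine Ideal.Quotient.eq.mpr (hker.le ?_)
    rw [RingHom.mem_ker, map_sub, hψ, ha, sub_self]

end Groth.Agent.RigPt7
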