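import Mathlib
import Groth.Agent.RigPt7.Basic
import Groth.Agent.Adic7.Misc
import Groth.Agent.VarDim.Basic
import Groth.Agent.S0544
import Groth.Agent.RigPt7.ComplLoc

/-! Rig-closed points along maps which are of finite type modulo the ideal of definition. -/

universe u

namespace Groth.Agent.RigPt7

theorem tfae_rig_closed_comap (A : Type u) [CommRing A] [IsNoetherianRing A] (I : Ideal A) [IsAdicComplete I A]
    (B : Type u) [CommRing B] [Algebra A B] [IsNoetherianRing B] [IsAdicComplete (I.map (algebraMap A B)) B]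
    (hft : Algebra.FiniteType A (B ⧸ (I.map (algebraMap A B)))) (q : PrimeSpectrum B)
    (hq : (¬ (I.map (algebraMap A B)) ≤ q.asIdeal ∧
      ∀ y : PrimeSpectrum B, q ≤ y → ¬ (I.map (algebraMap A B)) ≤ y.asIdeal → y = q)) :
    List.TFAE [∀ m : Ideal B, m.IsMaximal → q.asIdeal ≤ m → Module.Finite A (B ⧸ m),
      (¬ I ≤ (PrimeSpectrum.comap (algebraMap A B) q).asIdeal ∧ ∀ y : PrimeSpectrum A,
        (PrimeSpectrum.comap (algebraMap A B) q) ≤ y → ¬ I ≤ y.asIdeal →
          y = (PrimeSpectrum.comap (algebraMap A B) q)), Module.Finite A (B ⧸ q.asIdeal)] := by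
  let J := I.map (algebraMap A B)
  let R := B ⧸ q.asIdeal
  let q' := PrimeSpectrum.comap (algebraMap A B) q
  have hB := (tfae_rig_closed J q).out 0 2 (by rfl) (by rfl)
  obtain ⟨hdim, hmax, -⟩ := hB.mp hq
  tfae_have 1 → 3 := fun h => by
    have hJR : IsAdicComplete J R :=
      { toIsHausdorff := IsHausdorff.of_le_jacobson J R (IsAdicComplete.le_jacobson_bot J)
        toIsPrecomplete := Adic7.isPrecomplete_of_finite J R }
    have hIR : IsAdicComplete I R := (IsAdicComplete.map_algebraMap_iff (S := B) I R).mp hJR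
    obtain ⟨m₀, hm₀⟩ := Ideal.exists_maximal R
    let m := m₀.comap (Ideal.Quotient.mk q.asIdeal)
    have hmmax : m.IsMaximal := Ideal.comap_isMaximal_of_surjective _ Ideal.Quotient.mk_surjective
    have hqm : q.asIdeal ≤ m := fun x hx => by
      simp [m, Ideal.mem_comap, Ideal.Quotient.eq_zero_iff_mem.mpr hx]
    have := h m hmmax hqm
    obtain ⟨n, hn⟩ := Ideal.exists_radical_pow_le_of_fg (q.asIdeal ⊔ J) (IsNoetherian.noetherian _)
    have hm : m ≤ (q.asIdeal ⊔ J).radical := by
      show m₀.comap _ ≤ _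
      rw [hmax m₀ hm₀, Ideal.comap_radical]
      exact Ideal.radical_mono (by
        rw [Ideal.comap_map_of_surjective _ Ideal.Quotient.mk_surjective, ← RingHom.ker_eq_comap_bot,
          Ideal.mk_ker, sup_comm])
    have hle : m ^ n ≤ q.asIdeal ⊔ J := (Ideal.pow_right_mono hm n).trans hn
    have := Adic7.finite_quotient_pow A B m n
    let π : (B ⧸ m ^ n) →ₗ[A] R ⧸ (I • ⊤ : Submodule A R) :=
      { toFun := Quotient.lift (fun b => Submodule.Quotient.mk (Ideal.Quotient.mk q.asIdeal b)) fun a b hab => by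
          rw [Submodule.Quotient.eq]
          have := hle ((Submodule.quotientRel_def _).mp hab)
          obtain ⟨x, hx, y, hy, hxy⟩ := Submodule.mem_sup.mp this
          rw [← map_sub, ← hxy, map_add, Ideal.Quotient.eq_zero_iff_mem.mpr hx, zero_add, Ideal.smul_top_eq_map,
            Submodule.restrictScalars_mem, IsScalarTower.algebraMap_eq A B R, ← Ideal.map_map]
          exact Ideal.mem_map_of_mem (Ideal.Quotient.mk q.asIdeal) hy
        map_add' := by rintro ⟨a⟩ ⟨b⟩; rfl
        map_smul' := by rintro r ⟨a⟩; rfl }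
    have : Module.Finite A (R ⧸ (I • ⊤ : Submodule A R)) := Module.Finite.of_surjective π fun z => by
      obtain ⟨z, rfl⟩ := Submodule.Quotient.mk_surjective _ z
      obtain ⟨b, rfl⟩ := Ideal.Quotient.mk_surjective z
      exact ⟨Submodule.Quotient.mk b, rfl⟩
    exact S0544.result A I R this
  tfae_have 3 → 2 := fun h => by
    have : Module.Finite (A ⧸ q'.asIdeal) R := by
      have : q.asIdeal.LiesOver q'.asIdeal := ⟨rfl⟩
      exact Module.Finite.of_restrictScalars_finite A _ _
    have : q.asIdeal.LiesOver q'.asIdeal := ⟨rfl⟩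
    have h1 : ringKrullDim (A ⧸ q'.asIdeal) = 1 := by
      rw [← VarDim.ringKrullDim_eq_of_isIntegral (R := A ⧸ q'.asIdeal) (S := R)]
      exact hdim
    have h2 : ¬ I ≤ q'.asIdeal := fun hle => hq.1 (Ideal.map_le_iff_le_comap.mpr hle)
    have h01 := (tfae_rig_closed I q').out 1 0 (by rfl) (by rfl)
    exact h01.mp (And.intro h1 h2)
  tfae_have 2 → 1 := fun h m hm hqm => by
    have hJm : J ≤ m := (IsAdicComplete.le_jacobson_bot J).trans
      (by rw [Ideal.jacobson]; exact sInf_le ⟨bot_le, hm⟩)
    let n := m.comap (algebraMap A B)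
    have : n.IsPrime := hm.isPrime.comap _
    have hIn : I ≤ n := Ideal.map_le_iff_le_comap.mp hJm
    obtain ⟨hd, -⟩ := ((tfae_rig_closed I q').out 0 1 (by rfl) (by rfl)).mp h
    have : Ring.KrullDimLE 1 (A ⧸ q'.asIdeal) := Ring.krullDimLE_iff.mpr (by exact_mod_cast hd.le)
    have hq'n : RingHom.ker (Ideal.Quotient.mk q'.asIdeal) ≤ n := by
      rw [Ideal.mk_ker]; exact Ideal.comap_mono hqm
    have hnmax : n.IsMaximal := by
      have hP := Ideal.map_isPrime_of_surjective (I := n) Ideal.Quotient.mk_surjective hq'n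
      have hne : n.map (Ideal.Quotient.mk q'.asIdeal) ≠ ⊥ := fun he => h.1 (hIn.trans (by
        rw [Ideal.map_eq_bot_iff_le_ker, Ideal.mk_ker] at he
        exact he))
      have := Ideal.comap_isMaximal_of_surjective (Ideal.Quotient.mk q'.asIdeal) Ideal.Quotient.mk_surjective
        (K := n.map (Ideal.Quotient.mk q'.asIdeal)) (H := hP.isMaximal_of_ne_bot hne)
      rwa [Ideal.comap_map_of_surjective _ Ideal.Quotient.mk_surjective, ← RingHom.ker_eq_comap_bot,
        sup_eq_left.mpr hq'n] at this
    have : m.LiesOver n := ⟨rfl⟩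
    have : Algebra.FiniteType A (B ⧸ m) :=
      hft.of_surjective (Ideal.Quotient.factorₐ A hJm) (Ideal.Quotient.factor_surjective hJm)
    have : Algebra.FiniteType (A ⧸ n) (B ⧸ m) := Algebra.FiniteType.of_restrictScalars_finiteType A _ _
    let := Ideal.Quotient.field n
    let := Ideal.Quotient.field m
    have : Module.Finite (A ⧸ n) (B ⧸ m) := finite_of_finite_type_of_isJacobsonRing _ _
    exact Module.Finite.trans (A ⧸ n) (B ⧸ m)
  tfae_finish

/-- The kernel of a finite map to a one-dimensional domain with non-zero image of the ideal is rig-closed. -/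
theorem rig_closed_ker_of_finite {A : Type u} [CommRing A] [IsNoetherianRing A] (I : Ideal A) [IsAdicComplete I A]
    {R : Type u} [CommRing R] [IsDomain R] [Algebra A R] [Module.Finite A R] (hd : ringKrullDim R = 1)
    (hI : I.map (algebraMap A R) ≠ ⊥) :
    (RingHom.ker (algebraMap A R)).IsPrime ∧ ¬ I ≤ RingHom.ker (algebraMap A R) ∧
      ∀ y : PrimeSpectrum A, RingHom.ker (algebraMap A R) ≤ y.asIdeal → ¬ I ≤ y.asIdeal →
        y.asIdeal = RingHom.ker (algebraMap A R) := by
  let p : PrimeSpectrum A := ⟨RingHom.ker (algebraMap A R), RingHom.ker_isPrime _⟩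
  let := ((Ideal.Quotient.lift p.asIdeal (algebraMap A R) fun _ h => h)).toAlgebra
  have : IsScalarTower A (A ⧸ p.asIdeal) R := IsScalarTower.of_algebraMap_eq' rfl
  have : Module.Finite (A ⧸ p.asIdeal) R := Module.Finite.of_restrictScalars_finite A _ _
  have : FaithfulSMul (A ⧸ p.asIdeal) R :=
    (faithfulSMul_iff_algebraMap_injective _ _).mpr (RingHom.kerLift_injective (algebraMap A R))
  have hnI : ¬ I ≤ p.asIdeal := fun hle => hI ((Ideal.map_eq_bot_iff_le_ker _).mpr hle)
  have h1 : ringKrullDim (A ⧸ p.asIdeal) = 1 := by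
    rw [← VarDim.ringKrullDim_eq_of_isIntegral (R := A ⧸ p.asIdeal) (S := R)]
    exact hd
  have h01 := (tfae_rig_closed I p).out 1 0 (by rfl) (by rfl)
  have h2 := h01.mp (And.intro h1 hnI)
  exact ⟨p.isPrime, hnI, fun y hy hyI => congrArg PrimeSpectrum.asIdeal (h2.2 y hy hyI)⟩

theorem exists_rig_closed_below (A : Type u) [CommRing A] [IsNoetherianRing A] (I : Ideal A) [IsAdicComplete I A]
    (B : Type u) [CommRing B] [Algebra A B] [IsNoetherianRing B] [IsAdicComplete (I.map (algebraMap A B)) B]
    (hft : Algebra.FiniteType A (B ⧸ (I.map (algebraMap A B)))) (q : PrimeSpectrum B)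
    (hq : (¬ (I.map (algebraMap A B)) ≤ q.asIdeal ∧
      ∀ y : PrimeSpectrum B, q ≤ y → ¬ (I.map (algebraMap A B)) ≤ y.asIdeal → y = q)) :
    ∃ f : A, IsUnit (Ideal.Quotient.mk q.asIdeal (algebraMap A B f)) ∧
      ∀ (TA : Type u) [CommRing TA] [Algebra A TA] [IsLocalization.Away f TA]
        (TB : Type u) [CommRing TB] [Algebra B TB] [IsLocalization.Away (algebraMap A B f) TB]
        (ψ : AdicCompletion (I.map (algebraMap A TA)) TA →+*
          AdicCompletion ((I.map (algebraMap A B)).map (algebraMap B TB)) TB),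
        (∀ a : A, ψ (algebraMap A _ a) = algebraMap B _ (algebraMap A B a)) →
        ((q.asIdeal.map (algebraMap B (AdicCompletion ((I.map (algebraMap A B)).map (algebraMap B TB)) TB))).comap ψ).IsPrime ∧
        ¬ (I.map (algebraMap A (AdicCompletion (I.map (algebraMap A TA)) TA))) ≤
          (q.asIdeal.map (algebraMap B (AdicCompletion ((I.map (algebraMap A B)).map (algebraMap B TB)) TB))).comap ψ ∧
        ∀ y : PrimeSpectrum (AdicCompletion (I.map (algebraMap A TA)) TA),
          (q.asIdeal.map (algebraMap B (AdicCompletion ((I.map (algebraMap A B)).map (algebraMap B TB)) TB))).comap ψ ≤ y.asIdeal →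
          ¬ (I.map (algebraMap A (AdicCompletion (I.map (algebraMap A TA)) TA))) ≤ y.asIdeal →
          y.asIdeal = (q.asIdeal.map (algebraMap B (AdicCompletion ((I.map (algebraMap A B)).map (algebraMap B TB)) TB))).comap ψ := by
  classical
  let J := I.map (algebraMap A B)
  let R := B ⧸ q.asIdeal
  have hB := (tfae_rig_closed J q).out 0 2 (by rfl) (by rfl)
  obtain ⟨hdim, hmax, -⟩ := hB.mp hq
  let JR : Ideal R := J.map (Ideal.Quotient.mk q.asIdeal)
  have hJR : IsAdicComplete JR R := by
    have : IsAdicComplete J R :=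
      { toIsHausdorff := IsHausdorff.of_le_jacobson J R (IsAdicComplete.le_jacobson_bot J)
        toIsPrecomplete := Adic7.isPrecomplete_of_finite J R }
    exact (IsAdicComplete.map_algebraMap_iff (S := R) J R).mpr this
  have hIR : I.map (algebraMap A R) = JR := by rw [IsScalarTower.algebraMap_eq A B R, ← Ideal.map_map]; rfl
  have hJR0 : JR ≠ ⊥ := fun he => hq.1 (by rwa [Ideal.map_eq_bot_iff_le_ker, Ideal.mk_ker] at he)
  obtain ⟨m₀, hm₀⟩ := Ideal.exists_maximal R
  let L := R ⧸ m₀
  let n := RingHom.ker (algebraMap A L)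
  let := Ideal.Quotient.field m₀
  have hJm : JR ≤ m₀ := by
    rw [hmax m₀ hm₀]
    exact Ideal.le_radical
  have hftL : Algebra.FiniteType A L := by
    have h0 : ∀ b ∈ J, ((Ideal.Quotient.mkₐ A m₀).comp (Ideal.Quotient.mkₐ A q.asIdeal)) b = 0 := fun b hb =>
      Ideal.Quotient.eq_zero_iff_mem.mpr (hJm (Ideal.mem_map_of_mem _ hb))
    refine hft.of_surjective (Ideal.Quotient.liftₐ J _ h0) fun z => ?_
    obtain ⟨z, rfl⟩ := Ideal.Quotient.mk_surjective z
    obtain ⟨b, rfl⟩ := Ideal.Quotient.mk_surjective z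
    exact ⟨Ideal.Quotient.mk J b, rfl⟩
  have : n.IsPrime := RingHom.ker_isPrime _
  let D := A ⧸ n
  let := (Ideal.Quotient.lift n (algebraMap A L) fun _ h => h).toAlgebra
  have : IsScalarTower A D L := IsScalarTower.of_algebraMap_eq' rfl
  have hinj : Function.Injective (algebraMap D L) := RingHom.kerLift_injective (algebraMap A L)
  let K := FractionRing D
  let := (IsFractionRing.lift (K := K) hinj).toAlgebra
  have : IsScalarTower D K L := IsScalarTower.of_algebraMap_eq fun d => (IsFractionRing.lift_algebraMap hinj d).symm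
  have : IsScalarTower A K L := IsScalarTower.of_algebraMap_eq fun a => by
    rw [IsScalarTower.algebraMap_apply A D K, ← IsScalarTower.algebraMap_apply D K L,
      ← IsScalarTower.algebraMap_apply A D L]
  have : Algebra.FiniteType K L := Algebra.FiniteType.of_restrictScalars_finiteType A K L
  have : Module.Finite K L := finite_of_finite_type_of_isJacobsonRing K L
  have hmult : ∀ x : L, ∃ a : A, a ∉ n ∧ IsIntegral A (algebraMap A L a * x) := fun x => by
    have hx : IsAlgebraic D x := (IsFractionRing.isAlgebraic_iff D K L).mpr (Algebra.IsAlgebraic.isAlgebraic x)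
    obtain ⟨y, hy0, hy⟩ := hx.exists_integral_multiple
    obtain ⟨a, rfl⟩ := Ideal.Quotient.mk_surjective y
    refine ⟨a, fun ha => hy0 (Ideal.Quotient.eq_zero_iff_mem.mpr ha), isIntegral_trans (R := A) (A := D) _ ?_⟩
    rwa [Algebra.smul_def, ← Ideal.Quotient.algebraMap_eq, ← IsScalarTower.algebraMap_apply A D L] at hy
  choose a ha haint using hmult
  obtain ⟨s, hs⟩ := hftL.out
  let f := ∏ x ∈ s, a x
  have hf : f ∉ n := fun h => by
    obtain ⟨x, -, hx⟩ := (Ideal.IsPrime.prod_mem_iff (p := n)).mp h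
    exact ha x hx
  have hfu : IsUnit (Ideal.Quotient.mk q.asIdeal (algebraMap A B f)) := by
    by_contra hnu
    obtain ⟨M, hM, hfM⟩ := exists_max_ideal_of_mem_nonunits hnu
    rw [hmax M hM, ← hmax m₀ hm₀] at hfM
    exact hf (Ideal.Quotient.eq_zero_iff_mem.mpr hfM)
  refine ⟨f, hfu, ?_⟩
  intro TA _ _ _ TB _ _ _ ψ hψ
  obtain ⟨hQ, hbij⟩ := ker_complMap_eq (A := B) J q.asIdeal (algebraMap A B f) hfu TB
  have : IsNoetherianRing TA := IsLocalization.isNoetherianRing (Submonoid.powers f) TA inferInstance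
  let CA := AdicCompletion (I.map (algebraMap A TA)) TA
  have : IsNoetherianRing CA := FComplLib.isNoetherianRing_adicCompletion _
  have hCA : IsAdicComplete (I.map (algebraMap A CA)) CA := by
    have := AdicCompletion.isAdicComplete_self (I.map (algebraMap A TA)) (IsNoetherian.noetherian _)
    rwa [Ideal.map_map, ← IsScalarTower.algebraMap_eq] at this
  let e := RingEquiv.ofBijective _ hbij
  let θ : CA →+* R := e.symm.toRingHom.comp ((Ideal.Quotient.mk _).comp ψ)
  letI := θ.toAlgebra
  have : IsScalarTower A CA R := IsScalarTower.of_algebraMap_eq fun x => by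
    show _ = e.symm (Ideal.Quotient.mk _ (ψ (algebraMap A CA x)))
    rw [hψ, ← Ideal.quotientMap_mk (H := Ideal.le_comap_map)]
    exact (e.symm_apply_apply (Ideal.Quotient.mk q.asIdeal (algebraMap A B x))).symm
  have hker : RingHom.ker θ = (q.asIdeal.map (algebraMap B _)).comap ψ := by
    ext x
    simp only [θ, RingHom.mem_ker, RingHom.coe_comp, Function.comp_apply, RingEquiv.toRingHom_eq_coe, RingHom.coe_coe, Ideal.mem_comap,
      map_eq_zero_iff e.symm e.symm.injective, Ideal.Quotient.eq_zero_iff_mem]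
    exact Iff.rfl
  have : IsScalarTower CA R L := IsScalarTower.of_algebraMap_eq' rfl
  have : IsScalarTower A CA L := IsScalarTower.of_algebraMap_eq fun x =>
    congrArg (Ideal.Quotient.mk m₀) (IsScalarTower.algebraMap_apply A CA R x)
  have hfA : IsUnit (algebraMap A CA f) := by
    rw [IsScalarTower.algebraMap_apply A TA CA]
    exact (IsLocalization.Away.algebraMap_isUnit f).map _
  have hint : ∀ x : L, IsIntegral CA x := by
    have : Algebra.adjoin A (s : Set L) ≤ (integralClosure CA L).restrictScalars A := by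
      refine Algebra.adjoin_le fun x hx => ?_
      obtain ⟨u, hu⟩ := isUnit_of_dvd_unit (map_dvd (algebraMap A CA) (Finset.dvd_prod_of_mem a hx)) hfA
      have h1 : IsIntegral CA (algebraMap A L (a x) * x) := (haint x).tower_top
      have h2 := (isIntegral_algebraMap (R := CA) (A := L) (x := (↑u⁻¹ : CA))).mul h1
      rw [IsScalarTower.algebraMap_apply A CA L, ← hu, ← mul_assoc, ← map_mul, Units.inv_mul, map_one,
        one_mul] at h2
      exact h2
    intro x
    exact this (hs ▸ Algebra.mem_top)
  have : Algebra.IsIntegral CA L := ⟨hint⟩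
  have : Algebra.FiniteType CA L := Algebra.FiniteType.of_restrictScalars_finiteType A CA L
  have : Module.Finite CA L := Algebra.IsIntegral.finite
  let IC := I.map (algebraMap A CA)
  have hICR : IC.map (algebraMap CA R) = JR := by rw [Ideal.map_map, ← IsScalarTower.algebraMap_eq, hIR]
  have hHR : IsAdicComplete IC R := (IsAdicComplete.map_algebraMap_iff (S := R) IC R).mp (hICR.symm ▸ hJR)
  obtain ⟨k, hk⟩ := Ideal.exists_radical_pow_le_of_fg JR (IsNoetherian.noetherian _)
  have := Adic7.finite_quotient_pow CA R m₀ k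
  have hle : m₀ ^ k ≤ JR := by
    rw [hmax m₀ hm₀]
    exact hk
  have : Module.Finite CA (R ⧸ (IC • ⊤ : Submodule CA R)) := by
    let π : (R ⧸ m₀ ^ k) →ₗ[CA] R ⧸ (IC • ⊤ : Submodule CA R) :=
      { toFun := Quotient.lift (fun b => Submodule.Quotient.mk b) fun a b hab => by
          rw [Submodule.Quotient.eq, Ideal.smul_top_eq_map, Submodule.restrictScalars_mem, hICR]
          exact hle ((Submodule.quotientRel_def _).mp hab)
        map_add' := by rintro ⟨a⟩ ⟨b⟩; rfl
        map_smul' := by rintro r ⟨a⟩; rfl }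
    exact Module.Finite.of_surjective π fun z => by
      obtain ⟨z, rfl⟩ := Submodule.Quotient.mk_surjective _ z
      exact ⟨Submodule.Quotient.mk z, rfl⟩
  have : Module.Finite CA R := S0544.result CA IC R this
  have h := rig_closed_ker_of_finite (A := CA) IC (R := R) hdim (hICR.symm ▸ hJR0)
  rw [RingHom.algebraMap_toAlgebra, hker] at h
  exact h

end Groth.Agent.RigPt7
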