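import Mathlib
import Groth.Agent.RigPt7.FinType

/-! Completions of algebras modulo ideals with finite quotient. -/

universe u

namespace Groth.Agent.RigPt7

open AdicCompletion (evalₐ)

theorem bijective_quotient_compl {A : Type u} [CommRing A] [IsNoetherianRing A] (I : Ideal A) [IsAdicComplete I A]
    {T : Type u} [CommRing T] [Algebra A T] [IsNoetherianRing T] (K : Ideal T) [Module.Finite A (T ⧸ K)] :
    (∀ c : AdicCompletion (I.map (algebraMap A T)) T, ∃ t : T, c - algebraMap T _ t ∈ K.map (algebraMap T _)) ∧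
      (K.map (algebraMap T (AdicCompletion (I.map (algebraMap A T)) T))).comap (algebraMap T _) = K := by
  let J := I.map (algebraMap A T)
  let C := AdicCompletion J T
  have : IsNoetherianRing C := FComplLib.isNoetherianRing_adicCompletion _
  have hC : IsAdicComplete (J.map (algebraMap T C)) C :=
    AdicCompletion.isAdicComplete_self _ (IsNoetherian.noetherian J)
  let R := T ⧸ K
  let KR : Ideal R := I.map (algebraMap A R)
  have hR : IsAdicComplete KR R := by
    have : IsAdicComplete I R := Adic7.isAdicComplete_of_finite I R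
    exact (IsAdicComplete.map_algebraMap_iff (S := R) I R).mpr this
  let φ : T →+* R := Ideal.Quotient.mk K
  have hJK : J.map φ ≤ KR := by
    rw [Ideal.map_map, show φ.comp (algebraMap A T) = algebraMap A R from rfl]
  let ψ : C →+* R := ((AdicCompletion.ofAlgEquiv KR).symm : AdicCompletion KR R →+* R).comp
    (FSch.complMap J KR φ hJK)
  have hψT : ∀ z : T, ψ (algebraMap T C z) = φ z := fun z => by
    show (AdicCompletion.ofAlgEquiv KR).symm (FSch.complMap J KR φ hJK (algebraMap T C z)) = φ z
    rw [FComplLib.complMap_algebraMap]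
    exact (AdicCompletion.ofAlgEquiv KR).symm.commutes (φ z)
  let P := K.map (algebraMap T C)
  have hP : P ≤ RingHom.ker ψ := Ideal.map_le_iff_le_comap.mpr fun a ha => by
    show ψ (algebraMap T C a) = 0
    rw [hψT]
    exact Ideal.Quotient.eq_zero_iff_mem.mpr ha
  have key : ∀ (c : C) (n : ℕ), ∃ z : T, c - algebraMap T C z ∈ (J.map (algebraMap T C)) ^ n := fun c n => by
    obtain ⟨z, hz⟩ := Ideal.Quotient.mk_surjective (evalₐ J n c)
    exact ⟨z, by rw [← Ideal.map_pow, ← FComplLib.evalₐ_eq_zero_iff J (IsNoetherian.noetherian J), map_sub,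
      FComplLib.evalₐ_algebraMap, hz, sub_self]⟩
  have hker : RingHom.ker ψ = P := by
    refine le_antisymm (fun c hc => ?_) hP
    have htf := Adic7.le_jacobson_tfae C (J.map (algebraMap T C))
    have h0 := (htf.out 0 3 (by rfl) (by rfl)).mp (IsAdicComplete.le_jacobson_bot _)
    have h4 := h0 C inferInstance P
    rw [← h4]
    refine Submodule.mem_iInf _ |>.mpr fun n => ?_
    rw [smul_eq_mul, Ideal.mul_top]
    obtain ⟨a, ha⟩ := key c n
    have h5 : φ a ∈ (J ^ n).map φ := by
      have h6 := Ideal.mem_map_of_mem ψ ha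
      rw [Ideal.map_pow, Ideal.map_map, show ψ.comp (algebraMap T C) = φ from RingHom.ext hψT, map_sub,
        RingHom.mem_ker.mp hc, zero_sub, neg_mem_iff, hψT] at h6
      rwa [Ideal.map_pow]
    rw [← Ideal.mem_comap, Ideal.comap_map_of_surjective _ Ideal.Quotient.mk_surjective,
      ← RingHom.ker_eq_comap_bot, Ideal.mk_ker] at h5
    obtain ⟨x, hx, y, hy, rfl⟩ := Submodule.mem_sup.mp h5
    have h7 : algebraMap T C (x + y) ∈ P ⊔ (J.map (algebraMap T C)) ^ n := by
      rw [map_add, ← Ideal.map_pow]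
      exact Ideal.add_mem _ (Ideal.mem_sup_right (Ideal.mem_map_of_mem _ hx))
        (Ideal.mem_sup_left (Ideal.mem_map_of_mem _ hy))
    simpa using Ideal.add_mem _ (Ideal.mem_sup_right (S := P) ha) h7
  refine ⟨fun c => ?_, ?_⟩
  · obtain ⟨t, ht⟩ := Ideal.Quotient.mk_surjective (ψ c)
    refine ⟨t, hker.le ?_⟩
    rw [RingHom.mem_ker, map_sub, hψT, ← ht, sub_self]
  · refine le_antisymm (fun t ht => ?_) Ideal.le_comap_map
    have : ψ (algebraMap T C t) = 0 := RingHom.mem_ker.mp (hP ht)
    rw [hψT] at this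
    exact Ideal.Quotient.eq_zero_iff_mem.mp this

theorem localRingHom_bijective_mod_pow {T C : Type u} [CommRing T] [CommRing C] [Algebra T C]
    (q : Ideal C) [q.IsPrime] (m : ℕ) (hm : 1 ≤ m)
    (hsurj : ∀ c : C, ∃ t : T, c - algebraMap T C t ∈ ((q.comap (algebraMap T C)) ^ m).map (algebraMap T C))
    (hinj : (((q.comap (algebraMap T C)) ^ m).map (algebraMap T C)).comap (algebraMap T C) = (q.comap (algebraMap T C)) ^ m)
    (hq : (q.comap (algebraMap T C)).map (algebraMap T C) = q) :
    (∀ x, Localization.localRingHom (q.comap (algebraMap T C)) q (algebraMap T C) rfl x ∈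
        IsLocalRing.maximalIdeal (Localization.AtPrime q) ^ m →
          x ∈ IsLocalRing.maximalIdeal (Localization.AtPrime (q.comap (algebraMap T C))) ^ m) ∧
    ∀ y : Localization.AtPrime q, ∃ x, y - Localization.localRingHom (q.comap (algebraMap T C)) q (algebraMap T C) rfl x ∈
        IsLocalRing.maximalIdeal (Localization.AtPrime q) ^ m := by
  let q₀ := q.comap (algebraMap T C)
  let K := (q₀ ^ m).map (algebraMap T C)
  have hK : K = q ^ m := by show (q₀ ^ m).map _ = _; rw [Ideal.map_pow, hq]
  have hKq : K ≤ q := hK ▸ Ideal.pow_le_self (by omega)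
  have hmaxC : IsLocalRing.maximalIdeal (Localization.AtPrime q) ^ m = K.map (algebraMap C _) := by
    rw [hK, Ideal.map_pow, Localization.AtPrime.map_eq_maximalIdeal]
  have hmaxT : IsLocalRing.maximalIdeal (Localization.AtPrime q₀) ^ m = (q₀ ^ m).map (algebraMap T _) := by
    rw [Ideal.map_pow, Localization.AtPrime.map_eq_maximalIdeal]
  constructor
  · intro x hx
    obtain ⟨⟨a, s⟩, rfl⟩ := IsLocalization.mk'_surjective q₀.primeCompl x
    rw [Localization.localRingHom_mk', hmaxC, IsLocalization.mk'_mem_map_algebraMap_iff] at hx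
    obtain ⟨t, ht, hta⟩ := hx
    obtain ⟨f, hf⟩ := hsurj t
    rw [hmaxT, IsLocalization.mk'_mem_map_algebraMap_iff]
    refine ⟨f, fun hfq => ht ?_, ?_⟩
    · have := Ideal.add_mem _ (hKq hf) (show algebraMap T C f ∈ q from hfq)
      rwa [sub_add_cancel] at this
    · rw [← hinj, Ideal.mem_comap, map_mul]
      have := Ideal.sub_mem _ hta (Ideal.mul_mem_right (algebraMap T C a) K hf)
      rwa [← sub_mul, sub_sub_cancel] at this
  · intro y
    obtain ⟨⟨c, t⟩, rfl⟩ := IsLocalization.mk'_surjective q.primeCompl y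
    obtain ⟨a, ha⟩ := hsurj c
    obtain ⟨f, hf⟩ := hsurj t
    have hfq : f ∈ q₀.primeCompl := fun hfq => t.2 (by
      have := Ideal.add_mem _ (hKq hf) (show algebraMap T C f ∈ q from hfq)
      rwa [sub_add_cancel] at this)
    refine ⟨IsLocalization.mk' _ a ⟨f, hfq⟩, ?_⟩
    rw [Localization.localRingHom_mk', ← IsLocalization.mk'_sub, hmaxC, IsLocalization.mk'_mem_map_algebraMap_iff]
    refine ⟨1, q.primeCompl.one_mem, ?_⟩
    rw [one_mul]
    show c * algebraMap T C f - algebraMap T C a * t ∈ K
    have := Ideal.sub_mem _ (Ideal.mul_mem_right (algebraMap T C f) K ha) (Ideal.mul_mem_left _ (algebraMap T C a) hf)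
    convert this using 1
    ring

end Groth.Agent.RigPt7
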