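import Mathlib
import Groth.Agent.RigPt7.Restricted
import Groth.Agent.LocalCrit.Flatness
import Groth.Agent.S8835

/-! Naive rig-flatness is inherited by completed localizations over a Jacobson base. -/

universe u

namespace Groth.Agent.RigPt7

open scoped TensorProduct

theorem keepsInjective_of_surjective_mod {A R S : Type u} [CommRing A] [CommRing R] [CommRing S]
    [Algebra A R] [Algebra A S] [Algebra R S] [IsScalarTower A R S] [Module.Flat A S]
    (K : Ideal A) (hs : ∀ r : R, ∃ a : A, r - algebraMap A R a ∈ K.map (algebraMap A R)) :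
    LocalCrit.KeepsInjective (K.map (algebraMap A R)) S := by
  intro N N' _ _ _ _ g hN hN' hg
  letI : Module A N := Module.compHom N (algebraMap A R)
  letI : Module A N' := Module.compHom N' (algebraMap A R)
  haveI : IsScalarTower A R N := IsScalarTower.of_algebraMap_smul fun _ _ => rfl
  haveI : IsScalarTower A R N' := IsScalarTower.of_algebraMap_smul fun _ _ => rfl
  have compat : ∀ (P : Type u) [AddCommGroup P] [Module R P] [Module A P] [IsScalarTower A R P],
      Module.IsTorsionBySet R P (K.map (algebraMap A R) : Ideal R) → TensorProduct.CompatibleSMul A R P S := by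
    intro P _ _ _ _ hP
    refine ⟨fun r x s => ?_⟩
    obtain ⟨a, ha⟩ := hs r
    have hzero : ∀ k ∈ K.map (algebraMap A R), (x ⊗ₜ[A] (k • s) : P ⊗[A] S) = 0 := by
      intro k hk
      induction hk using Submodule.span_induction generalizing s with
      | mem y hy =>
        obtain ⟨b, hb, rfl⟩ := hy
        have hx : algebraMap A R b • x = 0 := @hP x ⟨_, Ideal.mem_map_of_mem _ hb⟩
        rw [algebraMap_smul, ← TensorProduct.smul_tmul, ← algebraMap_smul R b x, hx, TensorProduct.zero_tmul]
      | zero => rw [zero_smul, TensorProduct.tmul_zero]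
      | add y z _ _ hy hz => rw [add_smul, TensorProduct.tmul_add, hy, hz, add_zero]
      | smul c y _ hy => rw [smul_eq_mul, mul_comm, mul_smul, hy]
    have hx : (r - algebraMap A R a) • x = 0 := @hP x ⟨_, ha⟩
    rw [← sub_add_cancel r (algebraMap A R a), add_smul, add_smul, hx, zero_add,
      TensorProduct.tmul_add, hzero _ ha, zero_add, algebraMap_smul, algebraMap_smul, TensorProduct.smul_tmul]
  haveI := compat N hN
  haveI := compat N' hN'
  let eN : N ⊗[R] S ≃ₗ[A] N ⊗[A] S := TensorProduct.equivOfCompatibleSMul A R A N S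
  let eN' : N' ⊗[R] S ≃ₗ[A] N' ⊗[A] S := TensorProduct.equivOfCompatibleSMul A R A N' S
  have hinj := Module.Flat.rTensor_preserves_injective_linearMap (M := S) (g.restrictScalars A) hg
  have hcomm : ∀ z, eN' (g.rTensor S z) = (g.restrictScalars A).rTensor S (eN z) := fun z => by
    induction z with
    | zero => simp
    | tmul n s => rfl
    | add z w hz hw => rw [map_add, map_add, hz, hw, map_add, map_add]
  intro z w hzw
  have := congrArg eN' hzw
  rw [hcomm, hcomm] at this
  exact eN.injective (hinj this)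

theorem flat_at_rig_closed (A : Type u) [CommRing A] [IsNoetherianRing A] (I : Ideal A) [IsAdicComplete I A]
    (B : Type u) [CommRing B] [Algebra A B] [IsNoetherianRing B] [IsAdicComplete (I.map (algebraMap A B)) B]
    (hft : Algebra.FiniteType A (B ⧸ (I.map (algebraMap A B)))) (hJ : IsJacobsonRing (A ⧸ I))
    (hnaive : ∀ q : PrimeSpectrum B, (¬ (I.map (algebraMap A B)) ≤ q.asIdeal ∧
      ∀ y : PrimeSpectrum B, q ≤ y → ¬ (I.map (algebraMap A B)) ≤ y.asIdeal → y = q) →
        Module.Flat A (Localization.AtPrime q.asIdeal)) (f : A)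
    (TA : Type u) [CommRing TA] [Algebra A TA] [IsLocalization.Away f TA]
    (TB : Type u) [CommRing TB] [Algebra B TB] [IsLocalization.Away (algebraMap A B f) TB]
    (ψ : AdicCompletion (I.map (algebraMap A TA)) TA →+*
      AdicCompletion ((I.map (algebraMap A B)).map (algebraMap B TB)) TB)
    (hψ : ∀ a : A, ψ (algebraMap A _ a) = algebraMap B _ (algebraMap A B a))
    (q' : PrimeSpectrum (AdicCompletion ((I.map (algebraMap A B)).map (algebraMap B TB)) TB))
    (hq' : (¬ (((I.map (algebraMap A B))).map (algebraMap B TB)).map (algebraMap TB _) ≤ q'.asIdeal ∧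
      ∀ y, q' ≤ y → ¬ (((I.map (algebraMap A B))).map (algebraMap B TB)).map (algebraMap TB
        (AdicCompletion ((I.map (algebraMap A B)).map (algebraMap B TB)) TB)) ≤ y.asIdeal → y = q')) :
    ((algebraMap _ (Localization.AtPrime q'.asIdeal)).comp ψ).Flat := by
  let J := I.map (algebraMap A B)
  let CA := AdicCompletion (I.map (algebraMap A TA)) TA
  let CB := AdicCompletion (J.map (algebraMap B TB)) TB
  have : IsNoetherianRing TA := IsLocalization.isNoetherianRing (Submonoid.powers f) TA inferInstance
  have : IsNoetherianRing TB := IsLocalization.isNoetherianRing (Submonoid.powers (algebraMap A B f)) TB inferInstance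
  have : IsNoetherianRing CA := FComplLib.isNoetherianRing_adicCompletion _
  have : IsNoetherianRing CB := FComplLib.isNoetherianRing_adicCompletion _
  letI : Algebra A TB := ((algebraMap B TB).comp (algebraMap A B)).toAlgebra
  haveI : IsScalarTower A B TB := IsScalarTower.of_algebraMap_eq' rfl
  have hJC : (J.map (algebraMap B TB)).map (algebraMap TB CB) = J.map (algebraMap B CB) :=
    (Ideal.map_map _ _).trans (congrArg (fun g => Ideal.map g J) (IsScalarTower.algebraMap_eq B TB CB).symm)
  have : IsAdicComplete (J.map (algebraMap B CB)) CB :=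
    hJC ▸ AdicCompletion.isAdicComplete_self (J.map (algebraMap B TB)) (IsNoetherian.noetherian _)
  have hftT : Algebra.FiniteType B TB := IsLocalization.finiteType_of_monoid_fg (Submonoid.powers (algebraMap A B f)) TB
  have hftC : Algebra.FiniteType B (CB ⧸ J.map (algebraMap B CB)) := by
    refine hftT.of_surjective
      ((Ideal.Quotient.mkₐ B (J.map (algebraMap B CB))).comp (IsScalarTower.toAlgHom B TB CB)) fun z => ?_
    obtain ⟨c, rfl⟩ := Ideal.Quotient.mk_surjective z
    obtain ⟨t, ht⟩ := Ideal.Quotient.mk_surjective (AdicCompletion.evalₐ (J.map (algebraMap B TB)) 1 c)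
    refine ⟨t, (Ideal.Quotient.eq.mpr ?_).symm⟩
    rw [IsScalarTower.algebraMap_eq B TB CB, ← Ideal.map_map]
    show c - algebraMap TB CB t ∈ _
    rw [← pow_one (Ideal.map (algebraMap TB CB) _), ← Ideal.map_pow, ← FComplLib.evalₐ_eq_zero_iff _ (IsNoetherian.noetherian _), map_sub,
      FComplLib.evalₐ_algebraMap, ht, sub_self]
  have hq'' : ¬ J.map (algebraMap B CB) ≤ q'.asIdeal ∧
      ∀ y : PrimeSpectrum CB, q' ≤ y → ¬ J.map (algebraMap B CB) ≤ y.asIdeal → y = q' :=
    ⟨fun h => hq'.1 (hJC.le.trans h), fun y hy hyJ => hq'.2 y hy fun h => hyJ (hJC.ge.trans h)⟩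
  have : IsJacobsonRing (B ⧸ J) := by
    have : Algebra.FiniteType (A ⧸ I) (B ⧸ J) := Algebra.FiniteType.of_restrictScalars_finiteType A _ _
    exact isJacobsonRing_of_finiteType (A := A ⧸ I)
  let q : PrimeSpectrum B := PrimeSpectrum.comap (algebraMap B CB) q'
  have hq := S8835.result B J CB hftC q' hq'' inferInstance
  let p : PrimeSpectrum A := PrimeSpectrum.comap (algebraMap A B) q
  have hp := S8835.result A I B hft q hq hJ
  have htf := (tfae_rig_closed_comap A I B hft q hq).out 1 2 (by rfl) (by rfl)
  have hfin : Module.Finite A (B ⧸ q.asIdeal) := htf.mp hp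
  -- `f` is invertible modulo `q`, hence modulo `p`
  have hfC : IsUnit (algebraMap B CB (algebraMap A B f)) := by
    rw [IsScalarTower.algebraMap_apply B TB CB]
    exact (IsLocalization.Away.algebraMap_isUnit (algebraMap A B f)).map _
  have hfq : IsUnit (Ideal.Quotient.mk q.asIdeal (algebraMap A B f)) := by
    by_contra hnu
    obtain ⟨M, hM, hfM⟩ := exists_max_ideal_of_mem_nonunits hnu
    have h02 := (tfae_rig_closed J q).out 0 2 (by rfl) (by rfl)
    rw [(h02.mp hq).2.1 M hM] at hfM
    obtain ⟨k, hk⟩ := hfM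
    rw [← map_pow, ← Ideal.mem_comap, Ideal.comap_map_of_surjective _ Ideal.Quotient.mk_surjective,
      ← RingHom.ker_eq_comap_bot, Ideal.mk_ker] at hk
    have h1 := Ideal.mem_map_of_mem (algebraMap B CB) hk
    rw [Ideal.map_sup, map_pow] at h1
    obtain ⟨m, hm, hqm⟩ := Ideal.exists_le_maximal q'.asIdeal q'.isPrime.ne_top
    have hJm : J.map (algebraMap B CB) ≤ m := (IsAdicComplete.le_jacobson_bot _).trans
      (by rw [Ideal.jacobson]; exact sInf_le ⟨bot_le, hm⟩)
    exact hm.ne_top (Ideal.eq_top_of_isUnit_mem _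
      (sup_le hJm (Ideal.map_comap_le.trans hqm) h1) (hfC.pow k))
  have hfp : IsUnit (Ideal.Quotient.mk p.asIdeal f) := by
    have : q.asIdeal.LiesOver p.asIdeal := ⟨rfl⟩
    have : Module.Finite (A ⧸ p.asIdeal) (B ⧸ q.asIdeal) := Module.Finite.of_restrictScalars_finite A _ _
    by_contra hnu
    obtain ⟨n, hn, hfn⟩ := exists_max_ideal_of_mem_nonunits hnu
    obtain ⟨M, hM, hMn⟩ := Ideal.exists_ideal_over_maximal_of_isIntegral (S := B ⧸ q.asIdeal) n
      (by simp [(RingHom.injective_iff_ker_eq_bot _).mp (FaithfulSMul.algebraMap_injective (A ⧸ p.asIdeal) (B ⧸ q.asIdeal))])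
    rw [← hMn] at hfn
    exact hM.ne_top (Ideal.eq_top_of_isUnit_mem _ (show Ideal.Quotient.mk q.asIdeal (algebraMap A B f) ∈ M from hfn) hfq)
  let S := Localization.AtPrime q'.asIdeal
  letI : Algebra CA S := ((algebraMap CB S).comp ψ).toAlgebra
  show Module.Flat CA S
  haveI : IsScalarTower A CA S := IsScalarTower.of_algebraMap_eq fun a => by
    show _ = algebraMap CB S (ψ (algebraMap A CA a))
    rw [hψ, IsScalarTower.algebraMap_apply A B S, IsScalarTower.algebraMap_apply B CB S]
  haveI : Module.Flat A S := by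
    let Bq := Localization.AtPrime q.asIdeal
    letI : Algebra Bq S := (Localization.localRingHom q.asIdeal q'.asIdeal (algebraMap B CB) rfl).toAlgebra
    haveI : IsScalarTower B Bq S := IsScalarTower.of_algebraMap_eq fun b => by
      show _ = Localization.localRingHom q.asIdeal q'.asIdeal (algebraMap B CB) rfl (algebraMap B Bq b)
      rw [Localization.localRingHom_to_map, IsScalarTower.algebraMap_apply B CB S]
    haveI : IsScalarTower A Bq S := IsScalarTower.of_algebraMap_eq fun a => by
      rw [IsScalarTower.algebraMap_apply A B Bq, ← IsScalarTower.algebraMap_apply B Bq S,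
        ← IsScalarTower.algebraMap_apply A B S]
    haveI : Module.Flat A Bq := hnaive q hq
    haveI : Module.Flat B TB := IsLocalization.flat TB (Submonoid.powers (algebraMap A B f))
    haveI : Module.Flat B CB := Module.Flat.trans B TB CB
    haveI : Module.Flat CB S := IsLocalization.flat S q'.asIdeal.primeCompl
    haveI : Module.Flat B S := Module.Flat.trans B CB S
    haveI : Module.Flat Bq S := (Module.flat_iff_of_isLocalization (S := Bq) q.asIdeal.primeCompl S).mpr inferInstance
    exact Module.Flat.trans A Bq S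
  refine LocalCrit.flat_of_forall_quotient_pow (B := S) (p.asIdeal.map (algebraMap A CA)) ?_ fun n => ?_
  · rw [IsLocalRing.jacobson_eq_maximalIdeal ⊥ bot_ne_top, Ideal.map_le_iff_le_comap, Ideal.map_le_iff_le_comap]
    intro a ha
    show algebraMap CB S (ψ (algebraMap A CA a)) ∈ IsLocalRing.maximalIdeal S
    rw [hψ, ← Localization.AtPrime.map_eq_maximalIdeal]
    exact Ideal.mem_map_of_mem _ ha
  · rw [← Ideal.map_pow]
    refine keepsInjective_of_surjective_mod (p.asIdeal ^ n) fun r => ?_
    let K := (p.asIdeal ^ n).map (algebraMap A TA)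
    have hu : IsUnit (Ideal.Quotient.mk (p.asIdeal ^ n) f) := by
      obtain ⟨g, hg⟩ := hfp.exists_right_inv
      obtain ⟨g, rfl⟩ := Ideal.Quotient.mk_surjective g
      have hnil : IsNilpotent (Ideal.Quotient.mk (p.asIdeal ^ n) (f * g - 1)) := ⟨n, by
        rw [← map_pow, Ideal.Quotient.eq_zero_iff_mem]
        exact Ideal.pow_mem_pow (Ideal.Quotient.eq_zero_iff_mem.mp (by simp [hg])) n⟩
      have h2 := hnil.isUnit_one_add
      rw [← map_one (Ideal.Quotient.mk (p.asIdeal ^ n)), ← map_add, add_sub_cancel, map_mul] at h2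
      exact isUnit_of_mul_isUnit_left h2
    have hT : ∀ t : TA, ∃ a : A, t - algebraMap A TA a ∈ K := fun t => by
      obtain ⟨k, a, ha⟩ := IsLocalization.Away.surj f t
      obtain ⟨g, hg⟩ := (hu.pow k).exists_right_inv
      obtain ⟨g, rfl⟩ := Ideal.Quotient.mk_surjective g
      refine ⟨a * g, ?_⟩
      have hm : f ^ k * g - 1 ∈ p.asIdeal ^ n := Ideal.Quotient.eq_zero_iff_mem.mp (by simp [hg])
      have : t - algebraMap A TA (a * g) = -(t * algebraMap A TA (f ^ k * g - 1)) := by
        simp only [map_sub, map_mul, map_pow, map_one, ← ha]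
        ring
      rw [this]
      exact neg_mem (Ideal.mul_mem_left _ _ (Ideal.mem_map_of_mem _ hm))
    have : Module.Finite A (TA ⧸ K) := Module.Finite.of_surjective
      ((Ideal.Quotient.mkₐ A K).comp (Algebra.ofId A TA)).toLinearMap fun z => by
        obtain ⟨t, rfl⟩ := Ideal.Quotient.mk_surjective z
        obtain ⟨a, ha⟩ := hT t
        exact ⟨a, (Ideal.Quotient.eq.mpr ha).symm⟩
    obtain ⟨t, ht⟩ := (bijective_quotient_compl (T := TA) I K).1 r
    obtain ⟨a, ha⟩ := hT t
    refine ⟨a, ?_⟩
    have h3 := Ideal.add_mem _ ht (Ideal.mem_map_of_mem (algebraMap TA CA) ha)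
    rw [map_sub, sub_add_sub_cancel, ← IsScalarTower.algebraMap_apply] at h3
    rw [IsScalarTower.algebraMap_eq A TA CA, ← Ideal.map_map, ← IsScalarTower.algebraMap_eq]
    exact h3

end Groth.Agent.RigPt7
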