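import Mathlib
import Groth.Agent.RigPt7.Comp
import Groth.Agent.RigPt7.FlatAt

/-! Completions of flat maps, descent and extension of flatness to non-open primes. -/

universe u

namespace Groth.Agent.RigPt7

open scoped TensorProduct
open AdicCompletion (evalₐ)

theorem exists_sub_mem_pow {T : Type u} [CommRing T] (J : Ideal T) (hJ : J.FG) (c : AdicCompletion J T) (n : ℕ) :
    ∃ z : T, c - algebraMap T _ z ∈ (J ^ n).map (algebraMap T (AdicCompletion J T)) := by
  obtain ⟨z, hz⟩ := Ideal.Quotient.mk_surjective (evalₐ J n c)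
  exact ⟨z, by rw [← FComplLib.evalₐ_eq_zero_iff J hJ, map_sub, FComplLib.evalₐ_algebraMap, hz, sub_self]⟩

/-- The completion of a flat map of Noetherian rings is flat. -/
theorem flat_complMap {T T' : Type u} [CommRing T] [CommRing T'] [IsNoetherianRing T] [IsNoetherianRing T']
    (g : T →+* T') (hg : g.Flat) (J : Ideal T) (K : Ideal T') (hK : J.map g = K) :
    (FSch.complMap J K g hK.le).Flat := by
  let B := AdicCompletion J T
  let R := AdicCompletion K T'
  have : IsNoetherianRing B := FComplLib.isNoetherianRing_adicCompletion _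
  have : IsNoetherianRing R := FComplLib.isNoetherianRing_adicCompletion _
  let φ := FSch.complMap J K g hK.le
  have hφ : ∀ t, φ (algebraMap T B t) = algebraMap T' R (g t) := FComplLib.complMap_algebraMap J K g hK.le
  letI : Algebra B R := φ.toAlgebra
  letI : Algebra T R := ((algebraMap T' R).comp g).toAlgebra
  haveI : IsScalarTower T B R := IsScalarTower.of_algebraMap_eq fun t => (hφ t).symm
  haveI : Module.Flat T R := RingHom.Flat.comp hg (RingHom.flat_algebraMap_iff.mpr inferInstance)
  show Module.Flat B R
  refine LocalCrit.flat_of_forall_quotient_pow (B := R) (J.map (algebraMap T B)) ?_ fun n => ?_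
  · have hR : IsAdicComplete (K.map (algebraMap T' R)) R :=
      AdicCompletion.isAdicComplete_self _ (IsNoetherian.noetherian K)
    refine le_trans (le_of_eq ?_) (IsAdicComplete.le_jacobson_bot (K.map (algebraMap T' R)))
    have h := congrArg (Ideal.map (algebraMap T' R)) hK
    rw [Ideal.map_map] at h
    rw [Ideal.map_map, ← IsScalarTower.algebraMap_eq]
    exact h
  · rw [← Ideal.map_pow]
    refine keepsInjective_of_surjective_mod (A := T) (J ^ n) fun r => ?_
    exact exists_sub_mem_pow J (IsNoetherian.noetherian _) r n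

/-- Flatness descends along a faithfully flat algebra. -/
theorem flat_of_faithfullyFlat (R M M' : Type u) [CommRing R] [CommRing M] [CommRing M'] [Algebra R M]
    [Algebra M M'] [Algebra R M'] [IsScalarTower R M M'] [Module.FaithfullyFlat M M'] [Module.Flat R M'] :
    Module.Flat R M := by
  rw [Module.Flat.iff_lTensor_preserves_injective_linearMap]
  intro N N' _ _ _ _ g hg
  let gM : M ⊗[R] N →ₗ[M] M ⊗[R] N' := TensorProduct.AlgebraTensorModule.lTensor M M g
  suffices Function.Injective gM from this
  refine (Module.FaithfullyFlat.lTensor_injective_iff_injective M M' gM).mp ?_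
  let eN := TensorProduct.AlgebraTensorModule.cancelBaseChange R M M M' N
  let eN' := TensorProduct.AlgebraTensorModule.cancelBaseChange R M M M' N'
  have hcomm : ∀ z, eN' (gM.lTensor M' z) = g.lTensor M' (eN z) := fun z => by
    induction z with
    | zero => simp
    | tmul m x =>
      induction x with
      | zero => simp
      | tmul a n => simp [eN, eN', gM]
      | add x y hx hy => simp only [TensorProduct.tmul_add, map_add, hx, hy]
    | add x y hx hy => simp only [map_add, hx, hy]
  intro x y hxy
  have h := congrArg eN' hxy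
  rw [hcomm, hcomm] at h
  exact eN.injective (Module.Flat.lTensor_preserves_injective_linearMap g hg h)

/-- Above a non-open prime there is a rig-closed one. -/
theorem exists_rig_closed_ge {C : Type u} [CommRing C] [IsNoetherianRing C] (J : Ideal C) (q : Ideal C) [q.IsPrime]
    (hq : ¬ J ≤ q) : ∃ P : PrimeSpectrum C, q ≤ P.asIdeal ∧
      (¬ J ≤ P.asIdeal ∧ ∀ y : PrimeSpectrum C, P ≤ y → ¬ J ≤ y.asIdeal → y = P) := by
  let S : Set (Ideal C) := {P | P.IsPrime ∧ q ≤ P ∧ ¬ J ≤ P}
  obtain ⟨P, ⟨hPp, hqP, hPJ⟩, hmax⟩ :=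
    WellFounded.has_min (wellFounded_gt (α := Ideal C)) S ⟨q, inferInstance, le_rfl, hq⟩
  exact ⟨⟨P, hPp⟩, hqP, hPJ, fun y hy hyJ => PrimeSpectrum.ext (by
    by_contra hne
    exact hmax y.asIdeal ⟨y.isPrime, hqP.trans hy, hyJ⟩ (lt_of_le_of_ne hy (Ne.symm hne)))⟩

/-- A map flat at rig-closed points is flat at non-open primes. -/
theorem flat_at_nonopen {R C : Type u} [CommRing R] [CommRing C] [IsNoetherianRing C] (J : Ideal C)
    (f : R →+* C)
    (h : ∀ P : PrimeSpectrum C, (¬ J ≤ P.asIdeal ∧ ∀ y : PrimeSpectrum C, P ≤ y → ¬ J ≤ y.asIdeal → y = P) →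
      ((algebraMap C (Localization.AtPrime P.asIdeal)).comp f).Flat)
    (q : Ideal C) [q.IsPrime] (hq : ¬ J ≤ q) : ((algebraMap C (Localization.AtPrime q)).comp f).Flat := by
  obtain ⟨P, hqP, hP⟩ := exists_rig_closed_ge J q hq
  exact flat_comp_of_le f (algebraMap C (Localization.AtPrime q)) P.asIdeal (h P hP)
    (RingHom.flat_algebraMap_iff.mpr inferInstance)
    fun b hb => IsLocalization.map_units (M := q.primeCompl) (Localization.AtPrime q) ⟨b, fun hbq => hb (hqP hbq)⟩

/-- A map from a completion of a localization to a complete ring. -/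
theorem exists_lift_compl {T : Type u} [CommRing T] (J : Ideal T) {L : Type u} [CommRing L]
    (K : Ideal L) [IsAdicComplete K L] (φ : T →+* L) (hφ : J.map φ ≤ K) :
    ∃ ψ : AdicCompletion J T →+* L, ψ.comp (algebraMap T _) = φ := by
  refine ⟨((AdicCompletion.ofAlgEquiv K).symm : AdicCompletion K L →+* L).comp (FSch.complMap J K φ hφ),
    RingHom.ext fun z => ?_⟩
  show (AdicCompletion.ofAlgEquiv K).symm (FSch.complMap J K φ hφ (algebraMap T _ z)) = φ z
  rw [FComplLib.complMap_algebraMap]
  exact (AdicCompletion.ofAlgEquiv K).symm.commutes (φ z)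

end Groth.Agent.RigPt7
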