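import Mathlib
import Groth.Agent.RigPt7.Base

/-! Descent of rig-flatness along faithfully flat adic maps. -/

universe u

namespace Groth.Agent.RigPt7

open AdicCompletion (evalₐ)

theorem flat_descent_completions {TA TA' TB TB' : Type u} [CommRing TA] [CommRing TA'] [CommRing TB] [CommRing TB']
    [IsNoetherianRing TA] [IsNoetherianRing TA'] [IsNoetherianRing TB] [IsNoetherianRing TB']
    (JA : Ideal TA) (JA' : Ideal TA') (JB : Ideal TB) (JB' : Ideal TB')
    (a : TA →+* TA') (u' : TA' →+* TB') (u : TA →+* TB) (b : TB →+* TB')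
    (ha : a.Flat) (hb : b.Flat) (hbs : ∀ n : Ideal TB, n.IsPrime → ∃ M : Ideal TB', M.IsPrime ∧ n.map b ≤ M)
    (hcomm : u'.comp a = b.comp u) (hJa : JA.map a = JA') (hJb : JB.map b = JB') (hJu : JA.map u = JB)
    (h' : ∀ ψ : AdicCompletion JA' TA' →+* AdicCompletion JB' TB',
      ψ.comp (algebraMap TA' _) = (algebraMap TB' _).comp u' → ∀ q : PrimeSpectrum (AdicCompletion JB' TB'),
      (¬ JB'.map (algebraMap TB' _) ≤ q.asIdeal ∧
        ∀ y, q ≤ y → ¬ JB'.map (algebraMap TB' _) ≤ y.asIdeal → y = q) →
      ((algebraMap (AdicCompletion JB' TB') (Localization.AtPrime q.asIdeal)).comp ψ).Flat)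
    (ψ : AdicCompletion JA TA →+* AdicCompletion JB TB) (hψ : ψ.comp (algebraMap TA _) = (algebraMap TB _).comp u)
    (q : PrimeSpectrum (AdicCompletion JB TB)) (hq : ¬ JB.map (algebraMap TB _) ≤ q.asIdeal) :
    ((algebraMap (AdicCompletion JB TB) (Localization.AtPrime q.asIdeal)).comp ψ).Flat := by
  let CA := AdicCompletion JA TA
  let CB := AdicCompletion JB TB
  let CB' := AdicCompletion JB' TB'
  have hJu' : JA'.map u' = JB' := by
    have h := Ideal.map_map (I := JA) a u'
    rw [hJa, hcomm] at h
    rw [h, ← Ideal.map_map, hJu, hJb]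
  let ψa := FSch.complMap JA JA' a hJa.le
  let ψu' := FSch.complMap JA' JB' u' hJu'.le
  let ψb := FSch.complMap JB JB' b hJb.le
  have hψa : ψa.comp (algebraMap TA _) = (algebraMap TA' _).comp a :=
    RingHom.ext (FComplLib.complMap_algebraMap JA JA' a hJa.le)
  have hψu' : ψu'.comp (algebraMap TA' _) = (algebraMap TB' _).comp u' :=
    RingHom.ext (FComplLib.complMap_algebraMap JA' JB' u' hJu'.le)
  have hψb : ψb.comp (algebraMap TB _) = (algebraMap TB' _).comp b :=
    RingHom.ext (FComplLib.complMap_algebraMap JB JB' b hJb.le)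
  have : IsNoetherianRing CB := FComplLib.isNoetherianRing_adicCompletion _
  have : IsNoetherianRing CB' := FComplLib.isNoetherianRing_adicCompletion _
  have : IsAdicComplete (JB.map (algebraMap TB CB)) CB :=
    AdicCompletion.isAdicComplete_self JB (IsNoetherian.noetherian _)
  have : IsAdicComplete (JB'.map (algebraMap TB' CB')) CB' :=
    AdicCompletion.isAdicComplete_self JB' (IsNoetherian.noetherian _)
  have hsq : ψb.comp ψ = ψu'.comp ψa := by
    have h1 : (ψb.comp ψ).comp (algebraMap TA CA) = (algebraMap TB' CB').comp (b.comp u) := by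
      rw [RingHom.comp_assoc, hψ, ← RingHom.comp_assoc, hψb, RingHom.comp_assoc]
    have h2 : (ψu'.comp ψa).comp (algebraMap TA CA) = (algebraMap TB' CB').comp (b.comp u) := by
      rw [RingHom.comp_assoc, hψa, ← RingHom.comp_assoc, hψu', RingHom.comp_assoc, hcomm]
    refine hom_ext_compl JA (IsNoetherian.noetherian _) (JB'.map (algebraMap TB' CB')) _ _
      (fun s => RingHom.congr_fun (h1.trans h2.symm) s) ?_
    rw [h1]
    have h := congrArg (Ideal.map (algebraMap TB' CB')) ((Ideal.map_map u b).symm.trans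
      ((congrArg (Ideal.map b) hJu).trans hJb))
    rw [Ideal.map_map] at h
    exact h.le
  -- `CB'` is faithfully flat over `CB`
  letI : Algebra CB CB' := ψb.toAlgebra
  haveI : Module.Flat CB CB' := flat_complMap b hb JB JB' hJb
  haveI : Module.FaithfullyFlat CB CB' := by
    refine Module.FaithfullyFlat.iff_flat_and_proper_ideal CB CB' |>.mpr ⟨inferInstance, fun I hI htop => ?_⟩
    obtain ⟨m, hm, hIm⟩ := Ideal.exists_le_maximal I hI
    have hJm : JB.map (algebraMap TB CB) ≤ m := (IsAdicComplete.le_jacobson_bot _).trans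
      (by rw [Ideal.jacobson]; exact sInf_le ⟨bot_le, hm⟩)
    let n := m.comap (algebraMap TB CB)
    obtain ⟨M, hM, hnM⟩ := hbs n (hm.isPrime.comap _)
    have hJM : JB' ≤ M := hJb.ge.trans ((Ideal.map_mono (Ideal.map_le_iff_le_comap.mp hJm)).trans hnM)
    let θ : CB' →+* TB' ⧸ M := (Ideal.Quotient.factor ((pow_one JB').le.trans hJM)).comp (evalₐ JB' 1).toRingHom
    have hθ : ∀ s, θ (algebraMap TB' CB' s) = Ideal.Quotient.mk M s := fun s => by
      show Ideal.Quotient.factor ((pow_one JB').le.trans hJM) (evalₐ JB' 1 (algebraMap TB' CB' s)) = _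
      rw [FComplLib.evalₐ_algebraMap, Ideal.Quotient.factor_mk]
    have hker : ∀ x ∈ m, θ (ψb x) = 0 := fun x hx => by
      obtain ⟨z, hz⟩ := exists_sub_mem_pow JB (IsNoetherian.noetherian _) x 1
      rw [pow_one] at hz
      have hzn : z ∈ n := by
        have := Ideal.sub_mem _ hx (hJm hz)
        rwa [sub_sub_cancel] at this
      have h2 : (JB.map (algebraMap TB CB)).map ψb ≤ RingHom.ker θ := by
        rw [Ideal.map_map, hψb, ← Ideal.map_map, hJb, Ideal.map_le_iff_le_comap]
        intro s hs
        rw [Ideal.mem_comap, RingHom.mem_ker, hθ]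
        exact Ideal.Quotient.eq_zero_iff_mem.mpr (hJM hs)
      have h3 : θ (ψb (x - algebraMap TB CB z)) = 0 := h2 (Ideal.mem_map_of_mem ψb hz)
      have h7 : ψb (algebraMap TB CB z) = algebraMap TB' CB' (b z) := RingHom.congr_fun hψb z
      rw [map_sub, map_sub, h7, hθ, Ideal.Quotient.eq_zero_iff_mem.mpr (hnM (Ideal.mem_map_of_mem b hzn)),
        sub_zero] at h3
      exact h3
    have h1 : (1 : CB') ∈ (m • ⊤ : Submodule CB CB') :=
      Submodule.smul_mono hIm le_rfl (htop.ge Submodule.mem_top)
    rw [Ideal.smul_top_eq_map, Submodule.restrictScalars_mem] at h1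
    have h4 : m.map ψb ≤ RingHom.ker θ := Ideal.map_le_iff_le_comap.mpr hker
    have h5 := h4 h1
    rw [RingHom.mem_ker, map_one] at h5
    have : Nontrivial (TB' ⧸ M) := Ideal.Quotient.nontrivial_iff.mpr hM.ne_top
    exact one_ne_zero h5
  obtain ⟨q', hq'⟩ := PrimeSpectrum.comap_surjective_of_faithfullyFlat (A := CB) (B := CB') q
  have hq'q : q'.asIdeal.comap ψb = q.asIdeal := congrArg PrimeSpectrum.asIdeal hq'
  have hq'J : ¬ JB'.map (algebraMap TB' CB') ≤ q'.asIdeal := fun hle => hq (by
    rw [← hq'q, ← Ideal.map_le_iff_le_comap, Ideal.map_map, hψb, ← Ideal.map_map, hJb]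
    exact hle)
  have hflat := flat_at_nonopen _ ψu' (fun P hP => h' ψu' hψu' P hP) q'.asIdeal hq'J
  let M := Localization.AtPrime q.asIdeal
  let M' := Localization.AtPrime q'.asIdeal
  have hM' : (((algebraMap CB' M').comp ψu').comp ψa).Flat := RingHom.Flat.comp (flat_complMap a ha JA JA' hJa) hflat
  letI : Algebra M M' := (Localization.localRingHom q.asIdeal q'.asIdeal ψb hq'q.symm).toAlgebra
  haveI : IsLocalHom (algebraMap M M') := Localization.isLocalHom_localRingHom _ _ _ _
  haveI : IsScalarTower CB M M' := IsScalarTower.of_algebraMap_eq fun x =>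
    ((Localization.localRingHom_to_map q.asIdeal q'.asIdeal ψb hq'q.symm x).trans
      (IsScalarTower.algebraMap_apply CB CB' M' x).symm).symm
  haveI : Module.Flat CB M' := Module.Flat.trans CB CB' M'
  haveI : Module.Flat M M' := (Module.flat_iff_of_isLocalization (S := M) q.asIdeal.primeCompl M').mpr inferInstance
  haveI : Module.FaithfullyFlat M M' := Module.FaithfullyFlat.of_flat_of_isLocalHom
  letI : Algebra CA M := ((algebraMap CB M).comp ψ).toAlgebra
  letI : Algebra CA M' := ((algebraMap M M').comp (algebraMap CA M)).toAlgebra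
  haveI : IsScalarTower CA M M' := IsScalarTower.of_algebraMap_eq' rfl
  haveI : Module.Flat CA M' := by
    refine RingHom.flat_algebraMap_iff.mp ?_
    rw [RingHom.algebraMap_toAlgebra, show algebraMap CA M = (algebraMap CB M).comp ψ from rfl, ← RingHom.comp_assoc,
      ← IsScalarTower.algebraMap_eq CB M M', IsScalarTower.algebraMap_eq CB CB' M', RingHom.comp_assoc,
      show (algebraMap CB CB') = ψb from rfl, hsq, ← RingHom.comp_assoc]
    exact hM'
  show Module.Flat CA M
  exact flat_of_faithfullyFlat CA M M'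

end Groth.Agent.RigPt7

namespace Groth.Agent.RigPt7

/-- The map induced on localizations away from an element by a flat map is flat. -/
theorem flat_of_flat_comp_algebraMap {R T S : Type u} [CommRing R] [CommRing T] [CommRing S] [Algebra R T]
    (M : Submonoid R) [IsLocalization M T] (b : T →+* S) (h : (b.comp (algebraMap R T)).Flat) : b.Flat := by
  letI := b.toAlgebra
  letI := (b.comp (algebraMap R T)).toAlgebra
  haveI : IsScalarTower R T S := IsScalarTower.of_algebraMap_eq' rfl
  haveI : Module.Flat R S := h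
  exact (Module.flat_iff_of_isLocalization (S := T) M S).mpr inferInstance

end Groth.Agent.RigPt7
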