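import Mathlib
import Groth.Agent.RigPt7.Basic
import Groth.Agent.S0544
import Groth.Agent.Adic7.Basic

/-! Adic algebras with unramified reduction over a rig-closed point. -/

universe u

namespace Groth.Agent.RigPt7

open scoped TensorProduct

theorem formallyUnramified_of_quotient {A R : Type u} [CommRing A] [CommRing R] [Algebra A R] [Module.Finite A R]
    (I : Ideal A) (hjac : I.map (algebraMap A R) ≤ Ideal.jacobson ⊥)
    (h : Algebra.FormallyUnramified A (R ⧸ I.map (algebraMap A R))) : Algebra.FormallyUnramified A R := by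
  let J := I.map (algebraMap A R)
  let Q := R ⧸ J
  let Ω := Ω[R⁄A]
  have hs : Function.Surjective (algebraMap R Q) := Ideal.Quotient.mk_surjective
  have hex := KaehlerDifferential.exact_kerCotangentToTensor_mapBaseChange A R Q hs
  have hsub : Subsingleton Ω[Q⁄A] := h.subsingleton_kaehlerDifferential
  have hzero : ∀ t : Q ⊗[R] Ω, t = 0 := fun t => by
    obtain ⟨c, rfl⟩ := (hex t).mp (Subsingleton.elim _ _)
    obtain ⟨⟨x, hx⟩, rfl⟩ := Ideal.toCotangent_surjective _ c
    have hxJ : x ∈ J := by
      rwa [RingHom.mem_ker, Ideal.Quotient.algebraMap_eq, Ideal.Quotient.eq_zero_iff_mem] at hx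
    rw [KaehlerDifferential.kerCotangentToTensor_toCotangent]
    show (1 : Q) ⊗ₜ[R] KaehlerDifferential.D A R x = 0
    clear hx
    induction hxJ using Submodule.span_induction with
    | mem y hy =>
      obtain ⟨a, -, rfl⟩ := hy
      simp
    | zero => simp
    | add y z _ _ hy hz => rw [map_add, TensorProduct.tmul_add, hy, hz, add_zero]
    | smul r y hy' hy =>
      have hy0 : algebraMap R Q y = 0 := Ideal.Quotient.eq_zero_iff_mem.mpr hy'
      rw [smul_eq_mul, Derivation.leibniz, TensorProduct.tmul_add, TensorProduct.tmul_smul, hy, smul_zero,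
        zero_add, TensorProduct.tmul_smul, TensorProduct.smul_tmul', Algebra.smul_def, mul_one, hy0,
        TensorProduct.zero_tmul]
  have hsub' : Subsingleton (Ω ⧸ J • (⊤ : Submodule R Ω)) := by
    have : Subsingleton (Q ⊗[R] Ω) := ⟨fun a b => by rw [hzero a, hzero b]⟩
    exact (TensorProduct.quotTensorEquivQuotSMul Ω J).symm.subsingleton
  have hbot : (⊤ : Submodule R Ω) = ⊥ := Submodule.eq_bot_of_le_smul_of_le_jacobson_bot J ⊤
    Module.Finite.fg_top (fun t _ => (Submodule.Quotient.mk_eq_zero _).mp (Subsingleton.elim _ _)) hjac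
  exact ⟨⟨fun a b => by
    have ha : a ∈ (⊥ : Submodule R Ω) := hbot ▸ trivial
    have hb : b ∈ (⊥ : Submodule R Ω) := hbot ▸ trivial
    rw [(Submodule.mem_bot R).mp ha, (Submodule.mem_bot R).mp hb]⟩⟩

theorem map_comap_eq_maximalIdeal {A : Type u} [CommRing A] [IsNoetherianRing A] (I : Ideal A) [IsAdicComplete I A]
    {B : Type u} [CommRing B] [Algebra A B] [IsNoetherianRing B] [IsAdicComplete (I.map (algebraMap A B)) B]
    (hft : Algebra.FiniteType A (B ⧸ I.map (algebraMap A B)))
    (hu : Algebra.FormallyUnramified A (B ⧸ I.map (algebraMap A B)))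
    (p : PrimeSpectrum A) (hp : ¬ I ≤ p.asIdeal ∧ ∀ y : PrimeSpectrum A, p ≤ y → ¬ I ≤ y.asIdeal → y = p)
    (q : Ideal B) [q.IsPrime] (hqp : q.comap (algebraMap A B) = p.asIdeal) :
    (p.asIdeal.map (algebraMap A B)).map (algebraMap B (Localization.AtPrime q)) =
      IsLocalRing.maximalIdeal (Localization.AtPrime q) := by
  let J := I.map (algebraMap A B)
  let P := p.asIdeal.map (algebraMap A B)
  let K := P ⊔ J
  let S := B ⧸ K
  let π : (B ⧸ J) →ₐ[A] S := Ideal.Quotient.factorₐ A le_sup_right
  have hπ : Function.Surjective π := Ideal.Quotient.factor_surjective (le_sup_right : J ≤ P ⊔ J)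
  have : Algebra.FormallyUnramified A S := Algebra.FormallyUnramified.of_surjective π hπ
  have : Algebra.FiniteType A S := hft.of_surjective π hπ
  let C := A ⧸ (p.asIdeal ⊔ I)
  have h01 := (tfae_rig_closed I p).out 0 1 (by rfl) (by rfl)
  obtain ⟨hd, -⟩ := h01.mp hp
  have : Ring.KrullDimLE 1 (A ⧸ p.asIdeal) := Ring.krullDimLE_iff.mpr (by exact_mod_cast hd.le)
  have : IsArtinianRing C := isArtinianRing_iff_krullDimLE_zero.mpr <| Ring.KrullDimLE.mk₀ fun Q hQ => by
    let Q₀ := Q.comap (Ideal.Quotient.mk (p.asIdeal ⊔ I))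
    have hQ₀ : Q₀.IsPrime := hQ.comap _
    have hle : p.asIdeal ⊔ I ≤ Q₀ := fun x hx => by
      simp [Q₀, Ideal.mem_comap, Ideal.Quotient.eq_zero_iff_mem.mpr hx]
    have hk : RingHom.ker (Ideal.Quotient.mk p.asIdeal) ≤ Q₀ := by rw [Ideal.mk_ker]; exact le_sup_left.trans hle
    have hne : Q₀.map (Ideal.Quotient.mk p.asIdeal) ≠ ⊥ := fun he => hp.1 ((le_sup_right.trans hle).trans
      (by rwa [Ideal.map_eq_bot_iff_le_ker, Ideal.mk_ker] at he))
    have hmax := Ideal.comap_isMaximal_of_surjective (Ideal.Quotient.mk p.asIdeal) Ideal.Quotient.mk_surjective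
      (H := (Ideal.map_isPrime_of_surjective Ideal.Quotient.mk_surjective hk).isMaximal_of_ne_bot hne)
    rw [Ideal.comap_map_of_surjective _ Ideal.Quotient.mk_surjective, ← RingHom.ker_eq_comap_bot,
      sup_eq_left.mpr hk] at hmax
    rw [← Ideal.map_comap_of_surjective _ Ideal.Quotient.mk_surjective Q]
    exact hmax.map_of_surjective_of_ker_le Ideal.Quotient.mk_surjective (by rwa [Ideal.mk_ker])
  letI : Algebra C S := (Ideal.quotientMap K (algebraMap A B) (sup_le
    (Ideal.le_comap_map.trans (Ideal.comap_mono le_sup_left))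
    (Ideal.le_comap_map.trans (Ideal.comap_mono le_sup_right)))).toAlgebra
  have : IsScalarTower A C S := IsScalarTower.of_algebraMap_eq' rfl
  have : Algebra.FormallyUnramified C S := Algebra.FormallyUnramified.of_restrictScalars A C S
  have : Algebra.FiniteType C S := Algebra.FiniteType.of_restrictScalars_finiteType A C S
  have : Module.Finite C S := Module.Finite.of_quasiFinite
  have : Module.Finite A S := Module.Finite.trans C S
  let R := B ⧸ P
  have hJR : IsAdicComplete J R :=
    { toIsHausdorff := IsHausdorff.of_le_jacobson J R (IsAdicComplete.le_jacobson_bot J)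
      toIsPrecomplete := Adic7.isPrecomplete_of_finite J R }
  have hIR : IsAdicComplete I R := (IsAdicComplete.map_algebraMap_iff (S := B) I R).mp hJR
  let χ : S →ₗ[A] R ⧸ (I • ⊤ : Submodule A R) :=
    { toFun := Quotient.lift (fun b => Submodule.Quotient.mk (Ideal.Quotient.mk P b)) fun a b hab => by
        rw [Submodule.Quotient.eq]
        obtain ⟨x, hx, y, hy, hxy⟩ := Submodule.mem_sup.mp ((Submodule.quotientRel_def _).mp hab)
        rw [← map_sub, ← hxy, map_add, Ideal.Quotient.eq_zero_iff_mem.mpr hx, zero_add, Ideal.smul_top_eq_map,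
          Submodule.restrictScalars_mem, IsScalarTower.algebraMap_eq A B R, ← Ideal.map_map]
        exact Ideal.mem_map_of_mem (Ideal.Quotient.mk P) hy
      map_add' := by rintro ⟨a⟩ ⟨b⟩; rfl
      map_smul' := by rintro r ⟨a⟩; rfl }
  have : Module.Finite A (R ⧸ (I • ⊤ : Submodule A R)) := Module.Finite.of_surjective χ fun z => by
    obtain ⟨z, rfl⟩ := Submodule.Quotient.mk_surjective _ z
    obtain ⟨b, rfl⟩ := Ideal.Quotient.mk_surjective z
    exact ⟨Submodule.Quotient.mk b, rfl⟩
  have : Module.Finite A R := S0544.result A I R this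
  have hJR' : IsAdicComplete (I.map (algebraMap A R)) R := (IsAdicComplete.map_algebraMap_iff (S := R) I R).mpr hIR
  have hRu : Algebra.FormallyUnramified A R := by
    refine formallyUnramified_of_quotient I (IsAdicComplete.le_jacobson_bot _) ?_
    let g : (B ⧸ J) →ₐ[A] R ⧸ I.map (algebraMap A R) :=
      Ideal.Quotient.liftₐ J ((Ideal.Quotient.mkₐ A _).comp (Ideal.Quotient.mkₐ A P)) fun b hb =>
        Ideal.Quotient.eq_zero_iff_mem.mpr (by
          rw [IsScalarTower.algebraMap_eq A B R, ← Ideal.map_map]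
          exact Ideal.mem_map_of_mem _ hb)
    refine Algebra.FormallyUnramified.of_surjective g fun z => ?_
    obtain ⟨z, rfl⟩ := Ideal.Quotient.mk_surjective z
    obtain ⟨b, rfl⟩ := Ideal.Quotient.mk_surjective z
    exact ⟨Ideal.Quotient.mk J b, rfl⟩
  have hPq : P ≤ q := Ideal.map_le_iff_le_comap.mpr hqp.ge
  let qR := q.map (Ideal.Quotient.mk P)
  have : qR.IsPrime := Ideal.map_isPrime_of_surjective Ideal.Quotient.mk_surjective (by rwa [Ideal.mk_ker])
  have hcomap : qR.comap (Ideal.Quotient.mk P) = q := by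
    rw [Ideal.comap_map_of_surjective _ Ideal.Quotient.mk_surjective, ← RingHom.ker_eq_comap_bot, Ideal.mk_ker,
      sup_eq_left.mpr hPq]
  have : qR.LiesOver p.asIdeal := ⟨by
    show p.asIdeal = qR.comap (algebraMap A R)
    rw [IsScalarTower.algebraMap_eq A B R, ← Ideal.comap_comap, Ideal.Quotient.algebraMap_eq, hcomap, hqp]⟩
  letI := Localization.AtPrime.algebraOfLiesOver p.asIdeal qR
  obtain ⟨-, hmap⟩ := (Algebra.isUnramifiedAt_iff_map_eq A p.asIdeal qR).mp inferInstance
  refine le_antisymm ?_ ?_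
  · rw [← Localization.AtPrime.map_eq_maximalIdeal]
    exact Ideal.map_mono hPq
  · rw [← Localization.AtPrime.map_eq_maximalIdeal, Ideal.map_le_iff_le_comap]
    intro x hx
    have h1 : algebraMap R (Localization.AtPrime qR) (Ideal.Quotient.mk P x) ∈
        IsLocalRing.maximalIdeal (Localization.AtPrime qR) := by
      rw [← Localization.AtPrime.map_eq_maximalIdeal]
      exact Ideal.mem_map_of_mem _ (Ideal.mem_map_of_mem _ hx)
    rw [← hmap, IsScalarTower.algebraMap_eq A R (Localization.AtPrime qR), ← Ideal.map_map,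
      IsLocalization.algebraMap_mem_map_algebraMap_iff qR.primeCompl] at h1
    obtain ⟨s, hs, hsx⟩ := h1
    obtain ⟨s, rfl⟩ := Ideal.Quotient.mk_surjective s
    rw [IsScalarTower.algebraMap_eq A B R, ← Ideal.map_map, Ideal.Quotient.algebraMap_eq, Ideal.map_quotient_self,
      Ideal.mem_bot, ← map_mul, Ideal.Quotient.eq_zero_iff_mem] at hsx
    rw [Ideal.mem_comap, IsLocalization.algebraMap_mem_map_algebraMap_iff q.primeCompl]
    exact ⟨s, fun hsq => hs (Ideal.mem_map_of_mem _ hsq), hsx⟩

end Groth.Agent.RigPt7
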