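import Mathlib
import Groth.Agent.RigPt7.Descent
import Groth.Agent.RigPt7.EtaleRed
import Groth.Agent.LocalCrit.Fibre

/-! Rig-flatness after an étale base change. -/

universe u

namespace Groth.Agent.RigPt7

open scoped TensorProduct

theorem map_algebraMap {A R C : Type u} [CommRing A] [CommRing R] [CommRing C] [Algebra A R] [Algebra R C]
    [Algebra A C] [IsScalarTower A R C] (I : Ideal A) :
    (I.map (algebraMap A R)).map (algebraMap R C) = I.map (algebraMap A C) := by
  rw [Ideal.map_map, ← IsScalarTower.algebraMap_eq]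

theorem map_map_eq {A R C : Type u} [CommRing A] [CommRing R] [CommRing C] (I : Ideal A) {f : A →+* R} {g : R →+* C}
    {h : A →+* C} (e : g.comp f = h) : (I.map f).map g = I.map h :=
  e ▸ Ideal.map_map f g

/-- Ring homs out of the completion of a localization are determined on the original ring. -/
theorem hom_ext_away {R T L : Type u} [CommRing R] [CommRing T] [CommRing L] [Algebra R T] [IsNoetherianRing T]
    (M : Submonoid R) [IsLocalization M T] (J : Ideal R) (K : Ideal L) [IsHausdorff K L]
    (u v : AdicCompletion (J.map (algebraMap R T)) T →+* L)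
    (huv : ∀ r : R, u (algebraMap R _ r) = v (algebraMap R _ r))
    (hu : J.map (u.comp (algebraMap R _)) ≤ K) : u = v := by
  have h : u.comp (algebraMap T _) = v.comp (algebraMap T _) := by
    refine IsLocalization.ringHom_ext M ?_
    rw [RingHom.comp_assoc, RingHom.comp_assoc, ← IsScalarTower.algebraMap_eq]
    exact RingHom.ext huv
  refine hom_ext_compl _ (IsNoetherian.noetherian _) K u v (fun s => RingHom.congr_fun h s) ?_
  rw [Ideal.map_map, RingHom.comp_assoc, ← IsScalarTower.algebraMap_eq]
  exact hu

theorem surjective_quotient_compl {A T : Type u} [CommRing A] [CommRing T] [Algebra A T] [IsNoetherianRing A]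
    (I : Ideal A) (L : Ideal T) (hL : L = I.map (algebraMap A T)) (c : AdicCompletion L T) :
    ∃ t : T, c - algebraMap T _ t ∈ I.map (algebraMap A (AdicCompletion L T)) := by
  obtain ⟨t, ht⟩ := exists_sub_mem_pow L (hL ▸ Ideal.FG.map (IsNoetherian.noetherian I) _) c 1
  refine ⟨t, ?_⟩
  rw [pow_one] at ht
  refine (le_of_eq ?_ : L.map (algebraMap T _) ≤ _) ht
  calc L.map (algebraMap T (AdicCompletion L T)) = (I.map (algebraMap A T)).map (algebraMap T _) :=
        congrArg (Ideal.map _) hL
    _ = _ := map_algebraMap I

theorem finiteType_quotient_compl {A R T : Type u} [CommRing A] [CommRing R] [CommRing T] [Algebra A R] [Algebra R T]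
    [Algebra A T] [IsScalarTower A R T] [IsNoetherianRing A] (I : Ideal A)
    [Algebra.FiniteType A (R ⧸ I.map (algebraMap A R))] (hRT : Algebra.FiniteType R T) (L : Ideal T)
    (hL : L = I.map (algebraMap A T)) :
    Algebra.FiniteType A (AdicCompletion L T ⧸ I.map (algebraMap A (AdicCompletion L T))) := by
  let J := I.map (algebraMap A R)
  let C := AdicCompletion L T
  let J' := I.map (algebraMap A C)
  have hJ' : J.map (algebraMap R C) = J' := map_algebraMap I
  have h1 : Algebra.FiniteType R (C ⧸ J') := by
    refine hRT.of_surjective ((Ideal.Quotient.mkₐ R J').comp (IsScalarTower.toAlgHom R T C)) fun z => ?_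
    obtain ⟨c, rfl⟩ := Ideal.Quotient.mk_surjective z
    obtain ⟨t, ht⟩ := surjective_quotient_compl I L hL c
    exact ⟨t, (Ideal.Quotient.eq.mpr ht).symm⟩
  letI : Algebra (R ⧸ J) (C ⧸ J') := (Ideal.quotientMap J' (algebraMap R C)
    (Ideal.map_le_iff_le_comap.mp hJ'.le)).toAlgebra
  haveI : IsScalarTower R (R ⧸ J) (C ⧸ J') := IsScalarTower.of_algebraMap_eq' rfl
  haveI : IsScalarTower A (R ⧸ J) (C ⧸ J') := IsScalarTower.of_algebraMap_eq fun a => by
    rw [IsScalarTower.algebraMap_apply A R (R ⧸ J), ← IsScalarTower.algebraMap_apply R (R ⧸ J) (C ⧸ J'),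
      ← IsScalarTower.algebraMap_apply A R (C ⧸ J')]
  have h2 : Algebra.FiniteType (R ⧸ J) (C ⧸ J') := Algebra.FiniteType.of_restrictScalars_finiteType R _ _
  exact Algebra.FiniteType.trans (S := R ⧸ J) inferInstance h2

theorem formallyUnramified_quotient_compl {A R T : Type u} [CommRing A] [CommRing R] [CommRing T] [Algebra A R]
    [Algebra R T] [Algebra A T] [IsScalarTower A R T] [IsNoetherianRing A] (I : Ideal A)
    [Algebra.FormallyUnramified A (R ⧸ I.map (algebraMap A R))] [Algebra.FormallyUnramified R T] (L : Ideal T)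
    (hL : L = I.map (algebraMap A T)) :
    Algebra.FormallyUnramified A (AdicCompletion L T ⧸ I.map (algebraMap A (AdicCompletion L T))) := by
  let J := I.map (algebraMap A R)
  let C := AdicCompletion L T
  let J' := I.map (algebraMap A C)
  have hJ' : J.map (algebraMap R C) = J' := map_algebraMap I
  have : Algebra.FormallyUnramified R (C ⧸ J') := by
    refine Algebra.FormallyUnramified.of_surjective ((Ideal.Quotient.mkₐ R J').comp (IsScalarTower.toAlgHom R T C))
      fun z => ?_
    obtain ⟨c, rfl⟩ := Ideal.Quotient.mk_surjective z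
    obtain ⟨t, ht⟩ := surjective_quotient_compl I L hL c
    exact ⟨t, (Ideal.Quotient.eq.mpr ht).symm⟩
  letI : Algebra (R ⧸ J) (C ⧸ J') := (Ideal.quotientMap J' (algebraMap R C)
    (Ideal.map_le_iff_le_comap.mp hJ'.le)).toAlgebra
  haveI : IsScalarTower R (R ⧸ J) (C ⧸ J') := IsScalarTower.of_algebraMap_eq' rfl
  haveI : IsScalarTower A (R ⧸ J) (C ⧸ J') := IsScalarTower.of_algebraMap_eq fun a => by
    rw [IsScalarTower.algebraMap_apply A R (R ⧸ J), ← IsScalarTower.algebraMap_apply R (R ⧸ J) (C ⧸ J'),
      ← IsScalarTower.algebraMap_apply A R (C ⧸ J')]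
  haveI : Algebra.FormallyUnramified (R ⧸ J) (C ⧸ J') := Algebra.FormallyUnramified.of_restrictScalars R _ _
  exact Algebra.FormallyUnramified.comp A (R ⧸ J) _

theorem rigFlat_of_etale_reduction (A : Type u) [CommRing A] [IsNoetherianRing A] (I : Ideal A) [IsAdicComplete I A]
    (B : Type u) [CommRing B] [Algebra A B] [IsNoetherianRing B]
    (hftB : Algebra.FiniteType A (B ⧸ I.map (algebraMap A B)))
    (A' : Type u) [CommRing A'] [Algebra A A'] [IsNoetherianRing A']
    (hftA' : Algebra.FiniteType A (A' ⧸ I.map (algebraMap A A')))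
    (hu : Algebra.FormallyUnramified A (A' ⧸ I.map (algebraMap A A')))
    (B' : Type u) [CommRing B'] [Algebra A B'] [Algebra B B'] [Algebra A' B'] [IsScalarTower A B B']
    [IsScalarTower A A' B'] [IsNoetherianRing B']
    (hftB'B : Algebra.FiniteType B (B' ⧸ I.map (algebraMap A B'))) [Module.Flat A A'] [Module.Flat B B']
    (hAB : ∀ (f : A) (ψ : AdicCompletion (I.map (algebraMap A (Localization.Away f))) (Localization.Away f) →+*
        AdicCompletion ((I.map (algebraMap A B)).map (algebraMap B (Localization.Away (algebraMap A B f))))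
          (Localization.Away (algebraMap A B f))),
      (∀ a : A, ψ (algebraMap A _ a) = algebraMap B _ (algebraMap A B a)) →
      ∀ q : Ideal (AdicCompletion ((I.map (algebraMap A B)).map (algebraMap B (Localization.Away (algebraMap A B f))))
          (Localization.Away (algebraMap A B f))), ∀ [q.IsPrime],
      ¬ (I.map (algebraMap A B)).map (algebraMap B _) ≤ q →
      ((algebraMap _ (Localization.AtPrime q)).comp ψ).Flat)
    (f' : A') (c : B') (hc : c = algebraMap A' B' f') (K : Ideal B') (hK : K = I.map (algebraMap A B'))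
    (J' : Ideal A') (hJ' : J' = I.map (algebraMap A A'))
    (ψ : AdicCompletion (J'.map (algebraMap A' (Localization.Away f'))) (Localization.Away f') →+*
      AdicCompletion (K.map (algebraMap B' (Localization.Away c))) (Localization.Away c))
    (hψ : ∀ a : A', ψ (algebraMap A' _ a) = algebraMap B' _ (algebraMap A' B' a))
    (q' : PrimeSpectrum (AdicCompletion (K.map (algebraMap B' (Localization.Away c))) (Localization.Away c)))
    (hq' : ¬ K.map (algebraMap B' _) ≤ q'.asIdeal ∧ ∀ y, q' ≤ y →
      ¬ K.map (algebraMap B' (AdicCompletion (K.map (algebraMap B' (Localization.Away c))) (Localization.Away c))) ≤ y.asIdeal → y = q') :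
    ((algebraMap _ (Localization.AtPrime q'.asIdeal)).comp ψ).Flat := by
  subst hJ'
  let T' := Localization.Away f'
  let TB' := Localization.Away c
  let E := AdicCompletion (K.map (algebraMap B' TB')) TB'
  have : IsNoetherianRing T' := IsLocalization.isNoetherianRing (Submonoid.powers f') _ inferInstance
  have : IsNoetherianRing TB' := IsLocalization.isNoetherianRing (Submonoid.powers c) _ inferInstance
  have : IsNoetherianRing E := FComplLib.isNoetherianRing_adicCompletion _
  let IE : Ideal E := I.map (algebraMap A E)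
  have hKE : K.map (algebraMap B' E) = IE := (congrArg (Ideal.map (algebraMap B' E)) hK).trans (map_algebraMap I)
  have hcompl : IsAdicComplete IE E := by
    exact ((map_algebraMap (A := B') (R := TB') (C := E) K).trans hKE) ▸
      AdicCompletion.isAdicComplete_self (K.map (algebraMap B' TB')) (IsNoetherian.noetherian _)
  have hftE : Algebra.FiniteType A (E ⧸ IE) := by
    have : Algebra.FiniteType A (B' ⧸ I.map (algebraMap A B')) := by
      let J := I.map (algebraMap A B)
      let J'' := I.map (algebraMap A B')
      have hJ'' : J.map (algebraMap B B') ≤ J'' := by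
        rw [Ideal.map_map, ← IsScalarTower.algebraMap_eq]
      letI : Algebra (B ⧸ J) (B' ⧸ J'') :=
        (Ideal.quotientMap J'' (algebraMap B B') (Ideal.map_le_iff_le_comap.mp hJ'')).toAlgebra
      haveI : IsScalarTower B (B ⧸ J) (B' ⧸ J'') := IsScalarTower.of_algebraMap_eq' rfl
      haveI : IsScalarTower A (B ⧸ J) (B' ⧸ J'') := IsScalarTower.of_algebraMap_eq fun a => by
        rw [IsScalarTower.algebraMap_apply A B (B ⧸ J), ← IsScalarTower.algebraMap_apply B (B ⧸ J) (B' ⧸ J''),
          ← IsScalarTower.algebraMap_apply A B (B' ⧸ J'')]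
      have h2 : Algebra.FiniteType (B ⧸ J) (B' ⧸ J'') := Algebra.FiniteType.of_restrictScalars_finiteType B _ _
      exact Algebra.FiniteType.trans (S := B ⧸ J) hftB h2
    exact finiteType_quotient_compl I (IsLocalization.finiteType_of_monoid_fg (Submonoid.powers c) TB')
      (K.map (algebraMap B' TB')) ((congrArg (Ideal.map _) hK).trans (map_algebraMap I))
  have hq'E : ¬ IE ≤ q'.asIdeal ∧ ∀ y : PrimeSpectrum E, q' ≤ y → ¬ IE ≤ y.asIdeal → y = q' := hKE ▸ hq'
  obtain ⟨f, hfu, hbelow⟩ := exists_rig_closed_below A I E hftE q' hq'E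
  let TA := Localization.Away f
  let TE := Localization.Away (algebraMap A E f)
  let TB := Localization.Away (algebraMap A B f)
  let T3 := Localization.Away (f' * algebraMap A A' f)
  have : IsNoetherianRing TA := IsLocalization.isNoetherianRing (Submonoid.powers f) _ inferInstance
  have : IsNoetherianRing TE := IsLocalization.isNoetherianRing (Submonoid.powers (algebraMap A E f)) _ inferInstance
  have : IsNoetherianRing TB := IsLocalization.isNoetherianRing (Submonoid.powers (algebraMap A B f)) _ inferInstance
  have : IsNoetherianRing T3 := IsLocalization.isNoetherianRing (Submonoid.powers (f' * algebraMap A A' f)) _ inferInstance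
  let CA := AdicCompletion (I.map (algebraMap A TA)) TA
  let CB := AdicCompletion ((I.map (algebraMap A B)).map (algebraMap B TB)) TB
  let C3 := AdicCompletion ((I.map (algebraMap A A')).map (algebraMap A' T3)) T3
  let E2 := AdicCompletion (IE.map (algebraMap E TE)) TE
  have : IsNoetherianRing CA := FComplLib.isNoetherianRing_adicCompletion _
  have : IsNoetherianRing CB := FComplLib.isNoetherianRing_adicCompletion _
  have : IsNoetherianRing C3 := FComplLib.isNoetherianRing_adicCompletion _
  have : IsNoetherianRing E2 := FComplLib.isNoetherianRing_adicCompletion _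
  let K2 : Ideal E2 := (IE.map (algebraMap E TE)).map (algebraMap TE E2)
  have hE2 : IsAdicComplete K2 E2 := AdicCompletion.isAdicComplete_self _ (IsNoetherian.noetherian _)
  have hIK2 : I.map ((algebraMap E E2).comp (algebraMap A E)) = K2 := by
    exact ((map_algebraMap (A := E) (R := TE) (C := E2) IE).trans (Ideal.map_map _ _)).symm
  -- the maps
  obtain ⟨ψ0, hψ0⟩ : ∃ φ : CA →+* E2, ∀ a, φ (algebraMap A CA a) = algebraMap E E2 (algebraMap A E a) := by
    obtain ⟨φ, hφ⟩ := exists_lift_compl (I.map (algebraMap A TA)) K2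
      ((algebraMap TE E2).comp (Localization.awayMap (algebraMap A E) f)) (by
        refine ((map_map_eq I ?_).trans hIK2).le
        rw [RingHom.comp_assoc, Localization.awayMap, IsLocalization.Away.map, IsLocalization.map_comp,
          ← RingHom.comp_assoc, ← IsScalarTower.algebraMap_eq E TE E2])
    refine ⟨φ, fun a => ?_⟩
    rw [IsScalarTower.algebraMap_apply A TA CA]
    refine (RingHom.congr_fun hφ (algebraMap A TA a)).trans ?_
    simp [Localization.awayMap, IsLocalization.Away.map, IsLocalization.map_eq, IsScalarTower.algebraMap_apply E TE E2,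
      TA, TE]
  obtain ⟨hp, hpI, hpmax⟩ := hbelow TA TE ψ0 hψ0
  obtain ⟨hQ, hbij⟩ := ker_complMap_eq (A := E) IE q'.asIdeal (algebraMap A E f) hfu TE
  let Q := q'.asIdeal.map (algebraMap E E2)
  have hQE : Q.comap (algebraMap E E2) = q'.asIdeal := by
    refine le_antisymm (fun x hx => ?_) Ideal.le_comap_map
    refine Ideal.Quotient.eq_zero_iff_mem.mp (hbij.1 ?_)
    rw [Ideal.quotientMap_mk, map_zero, Ideal.Quotient.eq_zero_iff_mem]
    exact hx
  have hQI : ¬ K2 ≤ Q := fun hle => hq'E.1 (by
    rw [← hQE, ← Ideal.map_le_iff_le_comap]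
    exact ((map_algebraMap (A := E) (R := TE) (C := E2) IE).symm.le).trans hle)
  let θ : A' →+* E2 := (algebraMap E E2).comp ((algebraMap B' E).comp (algebraMap A' B'))
  have hθA : θ.comp (algebraMap A A') = (algebraMap E E2).comp (algebraMap A E) := by
    rw [RingHom.comp_assoc, RingHom.comp_assoc, ← IsScalarTower.algebraMap_eq A A' B', ← IsScalarTower.algebraMap_eq]
  obtain ⟨ψ3, hψ3⟩ : ∃ φ : C3 →+* E2, φ.comp (algebraMap A' C3) = θ := by
    have hunit : IsUnit (θ (f' * algebraMap A A' f)) := by
      rw [map_mul]
      refine IsUnit.mul ?_ ?_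
      · show IsUnit (algebraMap E E2 (algebraMap B' E (algebraMap A' B' f')))
        rw [← hc, IsScalarTower.algebraMap_apply B' TB' E]
        exact ((IsLocalization.Away.algebraMap_isUnit c).map _).map _
      · rw [← RingHom.comp_apply, hθA, RingHom.comp_apply, IsScalarTower.algebraMap_apply E TE E2]
        exact (IsLocalization.Away.algebraMap_isUnit (algebraMap A E f)).map _
    obtain ⟨φ, hφ⟩ := exists_lift_compl ((I.map (algebraMap A A')).map (algebraMap A' T3)) K2
      (IsLocalization.Away.lift (f' * algebraMap A A' f) hunit) (by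
        exact ((map_map_eq _ (IsLocalization.Away.lift_comp _ hunit)).trans ((map_map_eq I hθA).trans hIK2)).le)
    refine ⟨φ, ?_⟩
    rw [IsScalarTower.algebraMap_eq A' T3 C3, ← RingHom.comp_assoc, hφ, IsLocalization.Away.lift_comp]
  have hf3 : IsUnit (algebraMap A T3 f) := by
    rw [IsScalarTower.algebraMap_apply A A' T3]
    exact isUnit_of_mul_isUnit_right (x := algebraMap A' T3 f')
      (by rw [← map_mul]; exact IsLocalization.Away.algebraMap_isUnit _)
  have hf'3 : IsUnit (algebraMap A' T3 f') :=
    isUnit_of_mul_isUnit_left (y := algebraMap A' T3 (algebraMap A A' f))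
      (by rw [← map_mul]; exact IsLocalization.Away.algebraMap_isUnit _)
  let v : TA →+* T3 := IsLocalization.Away.lift f hf3
  let w : T' →+* T3 := IsLocalization.Away.lift f' hf'3
  have hvA : v.comp (algebraMap A TA) = algebraMap A T3 := IsLocalization.Away.lift_comp f hf3
  have hwA : w.comp (algebraMap A' T') = algebraMap A' T3 := IsLocalization.Away.lift_comp f' hf'3
  have hJv : (I.map (algebraMap A TA)).map v = (I.map (algebraMap A A')).map (algebraMap A' T3) := by
    rw [Ideal.map_map, Ideal.map_map, hvA, ← IsScalarTower.algebraMap_eq]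
  have hJw : ((I.map (algebraMap A A')).map (algebraMap A' T')).map w = (I.map (algebraMap A A')).map (algebraMap A' T3) := by
    generalize I.map (algebraMap A A') = J
    rw [Ideal.map_map, hwA]
  have hA'T3 : Module.Flat A' T3 := IsLocalization.flat T3 (Submonoid.powers (f' * algebraMap A A' f))
  have hvflat : v.Flat := flat_of_flat_comp_algebraMap (Submonoid.powers f) v (by
    rw [hvA, IsScalarTower.algebraMap_eq A A' T3]
    exact RingHom.Flat.comp (RingHom.flat_algebraMap_iff.mpr inferInstance) (RingHom.flat_algebraMap_iff.mpr hA'T3))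
  have hwflat : w.Flat := flat_of_flat_comp_algebraMap (Submonoid.powers f') w (by
    rw [hwA]; exact RingHom.flat_algebraMap_iff.mpr hA'T3)
  let ψa := FSch.complMap _ _ v hJv.le
  let ψ1 := FSch.complMap _ _ w hJw.le
  have hψaA : ∀ a, ψa (algebraMap A CA a) = algebraMap A C3 a := fun a => by
    rw [IsScalarTower.algebraMap_apply A TA CA, IsScalarTower.algebraMap_apply A T3 C3]
    refine (FComplLib.complMap_algebraMap _ _ v hJv.le _).trans ?_
    rw [← RingHom.comp_apply v, hvA]
  have hψ1A : ∀ a : A', ψ1 (algebraMap A' _ a) = algebraMap A' C3 a := fun a => by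
    rw [IsScalarTower.algebraMap_apply A' T' _, IsScalarTower.algebraMap_apply A' T3 C3]
    refine (FComplLib.complMap_algebraMap _ _ w hJw.le _).trans ?_
    rw [← RingHom.comp_apply w, hwA]
  have h30 : ψ3.comp ψa = ψ0 := by
    have hA : ∀ a, ψ3 (ψa (algebraMap A CA a)) = ψ0 (algebraMap A CA a) := fun a => by
      rw [hψaA, hψ0, IsScalarTower.algebraMap_apply A A' C3, ← RingHom.comp_apply ψ3, hψ3]
      exact RingHom.congr_fun hθA a
    refine hom_ext_away (Submonoid.powers f) I K2 _ _ hA ?_
    rw [show (ψ3.comp ψa).comp (algebraMap A CA) = (algebraMap E E2).comp (algebraMap A E) from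
      RingHom.ext fun a => (hA a).trans (hψ0 a)]
    exact hIK2.le
  have h31 : (algebraMap E E2).comp ψ = ψ3.comp ψ1 := by
    have hA : ∀ a : A', algebraMap E E2 (ψ (algebraMap A' _ a)) = ψ3 (ψ1 (algebraMap A' _ a)) := fun a => by
      rw [hψ, hψ1A, ← RingHom.comp_apply ψ3, hψ3]
      rfl
    refine hom_ext_away (Submonoid.powers f') (I.map (algebraMap A A')) K2 _ _ hA ?_
    rw [show ((algebraMap E E2).comp ψ).comp (algebraMap A' _) = θ from RingHom.ext fun a => by
      show algebraMap E E2 (ψ (algebraMap A' _ a)) = _
      rw [hψ]; rfl]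
    exact ((map_map_eq I hθA).trans hIK2).le
  -- flatness over the completed localization of `A`
  have hBE : IsUnit (((algebraMap E TE).comp ((algebraMap B' E).comp (algebraMap B B'))) (algebraMap A B f)) := by
    rw [← RingHom.comp_apply _ (algebraMap A B), RingHom.comp_assoc, RingHom.comp_assoc, ← IsScalarTower.algebraMap_eq A B B',
      ← IsScalarTower.algebraMap_eq A B' E, RingHom.comp_apply]
    exact IsLocalization.Away.algebraMap_isUnit (algebraMap A E f)
  let x : TB →+* TE := IsLocalization.Away.lift (algebraMap A B f) hBE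
  have hxB : x.comp (algebraMap B TB) = (algebraMap E TE).comp ((algebraMap B' E).comp (algebraMap B B')) :=
    IsLocalization.Away.lift_comp _ hBE
  have hJx : ((I.map (algebraMap A B)).map (algebraMap B TB)).map x = IE.map (algebraMap E TE) := by
    refine (map_map_eq _ hxB).trans ((map_map_eq I ?_).trans (Ideal.map_map (algebraMap A E) (algebraMap E TE)).symm)
    rw [RingHom.comp_assoc, RingHom.comp_assoc, ← IsScalarTower.algebraMap_eq A B B',
      ← IsScalarTower.algebraMap_eq A B' E]
  have hxflat : x.Flat := flat_of_flat_comp_algebraMap (Submonoid.powers (algebraMap A B f)) x (by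
    rw [hxB]
    refine RingHom.Flat.comp (RingHom.Flat.comp (RingHom.flat_algebraMap_iff.mpr inferInstance) ?_)
      (RingHom.flat_algebraMap_iff.mpr (IsLocalization.flat TE (Submonoid.powers (algebraMap A E f))))
    rw [IsScalarTower.algebraMap_eq B' TB' E]
    exact RingHom.Flat.comp (RingHom.flat_algebraMap_iff.mpr (IsLocalization.flat TB' (Submonoid.powers c)))
      (RingHom.flat_algebraMap_iff.mpr inferInstance))
  let ψb := FSch.complMap _ _ x hJx.le
  let hJu : (I.map (algebraMap A TA)).map (Localization.awayMap (algebraMap A B) f) =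
      (I.map (algebraMap A B)).map (algebraMap B TB) := by
    rw [Ideal.map_map, Localization.awayMap, IsLocalization.Away.map, IsLocalization.map_comp, ← Ideal.map_map]
  let ψf := FSch.complMap _ _ _ hJu.le
  have hψfA : ∀ a, ψf (algebraMap A CA a) = algebraMap B CB (algebraMap A B a) := fun a => by
    rw [IsScalarTower.algebraMap_apply A TA CA, IsScalarTower.algebraMap_apply B TB CB]
    refine (FComplLib.complMap_algebraMap _ _ _ hJu.le _).trans ?_
    refine congrArg (algebraMap TB CB) ?_
    exact IsLocalization.map_eq _ a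
  have hψbB : ψb.comp (algebraMap B CB) = (algebraMap E E2).comp ((algebraMap B' E).comp (algebraMap B B')) := by
    rw [IsScalarTower.algebraMap_eq B TB CB, ← RingHom.comp_assoc,
      show ψb.comp (algebraMap TB CB) = (algebraMap TE E2).comp x from
        RingHom.ext fun t => FComplLib.complMap_algebraMap _ _ x hJx.le t,
      RingHom.comp_assoc, hxB, ← RingHom.comp_assoc, ← IsScalarTower.algebraMap_eq E TE E2]
  have hb0 : ψb.comp ψf = ψ0 := by
    have hA : ∀ a, ψb (ψf (algebraMap A CA a)) = ψ0 (algebraMap A CA a) := fun a => by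
      rw [hψfA, hψ0, ← RingHom.comp_apply ψb, hψbB]
      show algebraMap E E2 (algebraMap B' E (algebraMap B B' (algebraMap A B a))) = _
      rw [← IsScalarTower.algebraMap_apply A B B', ← IsScalarTower.algebraMap_apply A B' E]
    refine hom_ext_away (Submonoid.powers f) I K2 _ _ hA ?_
    rw [show (ψb.comp ψf).comp (algebraMap A CA) = (algebraMap E E2).comp (algebraMap A E) from
      RingHom.ext fun a => (hA a).trans (hψ0 a)]
    exact hIK2.le
  let M := Localization.AtPrime Q
  have hAM : ((algebraMap E2 M).comp ψ0).Flat := by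
    have hQ2 : (Q.comap ψb).IsPrime := Ideal.IsPrime.comap ψb
    have hQ2I : ¬ (I.map (algebraMap A B)).map (algebraMap B CB) ≤ Q.comap ψb := fun hle => hQI (by
      refine le_trans (le_of_eq ?_) (Ideal.map_le_iff_le_comap.mpr hle)
      refine ((map_map_eq _ hψbB).trans ((map_map_eq I ?_).trans hIK2)).symm
      rw [RingHom.comp_assoc, RingHom.comp_assoc, ← IsScalarTower.algebraMap_eq A B B',
        ← IsScalarTower.algebraMap_eq A B' E])
    rw [← hb0, ← RingHom.comp_assoc]
    refine flat_comp_of_le ψf ((algebraMap E2 M).comp ψb) (Q.comap ψb) (hAB f ψf hψfA (Q.comap ψb) hQ2I) ?_ ?_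
    · exact RingHom.Flat.comp (flat_complMap x hxflat _ _ hJx) (RingHom.flat_algebraMap_iff.mpr inferInstance)
    · exact fun b hb => IsLocalization.map_units (M := Q.primeCompl) M ⟨ψb b, hb⟩
  -- the unramified ring in between
  let r := Q.comap ψ3
  letI : Algebra CA C3 := ψa.toAlgebra
  haveI : IsScalarTower A CA C3 := IsScalarTower.of_algebraMap_eq fun a => (hψaA a).symm
  have hCA : IsAdicComplete (I.map (algebraMap A CA)) CA := by
    have := AdicCompletion.isAdicComplete_self (I.map (algebraMap A TA)) (IsNoetherian.noetherian _)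
    rwa [Ideal.map_map, ← IsScalarTower.algebraMap_eq] at this
  have hI3 : (I.map (algebraMap A CA)).map (algebraMap CA C3) = I.map (algebraMap A C3) := map_algebraMap I
  haveI : IsAdicComplete ((I.map (algebraMap A CA)).map (algebraMap CA C3)) C3 :=
    (((map_algebraMap (A := A') (R := T3) (C := C3) _).trans (map_algebraMap I)).trans hI3.symm) ▸
      AdicCompletion.isAdicComplete_self ((I.map (algebraMap A A')).map (algebraMap A' T3)) (IsNoetherian.noetherian _)
  have hft3 : Algebra.FiniteType CA (C3 ⧸ (I.map (algebraMap A CA)).map (algebraMap CA C3)) := by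
    rw [hI3]
    have := finiteType_quotient_compl I (IsLocalization.finiteType_of_monoid_fg
      (Submonoid.powers (f' * algebraMap A A' f)) T3) _ (map_algebraMap (A := A) (R := A') (C := T3) I)
    exact Algebra.FiniteType.of_restrictScalars_finiteType A CA _
  have hu3 : Algebra.FormallyUnramified CA (C3 ⧸ (I.map (algebraMap A CA)).map (algebraMap CA C3)) := by
    rw [hI3]
    have : Algebra.FormallyUnramified A' T3 :=
      Algebra.FormallyUnramified.of_isLocalization (Submonoid.powers (f' * algebraMap A A' f))
    have := formallyUnramified_quotient_compl (A := A) (R := A') (T := T3) I _ (map_algebraMap (A := A) (R := A') (C := T3) I)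
    exact Algebra.FormallyUnramified.of_restrictScalars A CA _
  let p : PrimeSpectrum CA := ⟨Q.comap ψ0, hp⟩
  have hrp : r.comap (algebraMap CA C3) = p.asIdeal := by
    show (Q.comap ψ3).comap ψa = Q.comap ψ0
    rw [Ideal.comap_comap, h30]
  have hmaxR := map_comap_eq_maximalIdeal (I.map (algebraMap A CA)) hft3 hu3 p
    ⟨hpI, fun y hy hyI => PrimeSpectrum.ext (hpmax y hy hyI)⟩ r hrp
  let R := Localization.AtPrime r
  haveI : Module.Flat CA C3 := flat_complMap v hvflat _ _ hJv
  haveI : Module.Flat C3 R := IsLocalization.flat R r.primeCompl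
  letI : Algebra R M := (Localization.localRingHom r Q ψ3 rfl).toAlgebra
  letI : Algebra CA M := ((algebraMap E2 M).comp ψ0).toAlgebra
  have hRM : (algebraMap R M).comp (algebraMap C3 R) = (algebraMap E2 M).comp ψ3 :=
    RingHom.ext fun z => Localization.localRingHom_to_map r Q ψ3 rfl z
  haveI : IsScalarTower CA R M := by
    refine IsScalarTower.of_algebraMap_eq' ?_
    rw [IsScalarTower.algebraMap_eq CA C3 R, ← RingHom.comp_assoc, hRM, RingHom.comp_assoc,
      show algebraMap CA C3 = ψa from rfl, h30]
    rfl
  haveI : Module.Flat CA M := hAM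
  haveI : Module.Flat R M := by
    have hmR : (p.asIdeal.map (algebraMap CA R)) = IsLocalRing.maximalIdeal R := by
      rw [IsScalarTower.algebraMap_eq CA C3 R, ← Ideal.map_map]
      exact hmaxR
    have hloc : IsLocalHom (algebraMap R M) := Localization.isLocalHom_localRingHom r Q ψ3 rfl
    refine LocalCrit.flat_of_le_jacobson (B := M) (IsLocalRing.maximalIdeal R) ?_ ?_ (LocalCrit.keepsInjective_of_isMaximal _ _)
    · rw [IsLocalRing.jacobson_eq_maximalIdeal ⊥ bot_ne_top]
      exact ((IsLocalRing.local_hom_TFAE (algebraMap R M)).out 0 2).mp hloc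
    · have := LocalCrit.rTensor_map_injective (R := CA) (S := R) (M := M) p.asIdeal
      rw [hmR] at this
      exact this
  have hA''M : ((algebraMap E2 M).comp (ψ3.comp ψ1)).Flat := by
    rw [← RingHom.comp_assoc, ← hRM]
    exact RingHom.Flat.comp (flat_complMap w hwflat _ _ hJw)
      (RingHom.Flat.comp (RingHom.flat_algebraMap_iff.mpr inferInstance) (RingHom.flat_algebraMap_iff.mpr inferInstance))
  -- descend
  let Mq := Localization.AtPrime q'.asIdeal
  letI : Algebra Mq M := (Localization.localRingHom q'.asIdeal Q (algebraMap E E2) hQE.symm).toAlgebra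
  haveI : IsLocalHom (algebraMap Mq M) := Localization.isLocalHom_localRingHom _ _ _ _
  haveI : IsScalarTower E Mq M := IsScalarTower.of_algebraMap_eq fun z =>
    ((Localization.localRingHom_to_map q'.asIdeal Q (algebraMap E E2) hQE.symm z).trans
      (IsScalarTower.algebraMap_apply E E2 M z).symm).symm
  haveI : Module.Flat E TE := IsLocalization.flat TE (Submonoid.powers (algebraMap A E f))
  haveI : Module.Flat E E2 := Module.Flat.trans E TE E2
  haveI : Module.Flat E M := Module.Flat.trans E E2 M
  haveI : Module.Flat Mq M := (Module.flat_iff_of_isLocalization (S := Mq) q'.asIdeal.primeCompl M).mpr inferInstance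
  haveI : Module.FaithfullyFlat Mq M := Module.FaithfullyFlat.of_flat_of_isLocalHom
  let CA' := AdicCompletion ((I.map (algebraMap A A')).map (algebraMap A' T')) T'
  letI : Algebra CA' Mq := ((algebraMap E Mq).comp ψ).toAlgebra
  letI : Algebra CA' M := ((algebraMap Mq M).comp (algebraMap CA' Mq)).toAlgebra
  haveI : IsScalarTower CA' Mq M := IsScalarTower.of_algebraMap_eq' rfl
  haveI : Module.Flat CA' M := by
    refine RingHom.flat_algebraMap_iff.mp ?_
    rw [RingHom.algebraMap_toAlgebra, show algebraMap CA' Mq = (algebraMap E Mq).comp ψ from rfl, ← RingHom.comp_assoc,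
      ← IsScalarTower.algebraMap_eq E Mq M, IsScalarTower.algebraMap_eq E E2 M, RingHom.comp_assoc, h31]
    exact hA''M
  show Module.Flat CA' Mq
  exact flat_of_faithfullyFlat CA' Mq M

end Groth.Agent.RigPt7
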