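import Mathlib
import Groth.Agent.RigPt7.Base
import Groth.Agent.LocalCrit.Completion

/-! Flatness at a rig-closed point of a completed tensor product. -/

universe u

namespace Groth.Agent.RigPt7

open scoped TensorProduct

/-- Two congruent rings stay congruent after localization at corresponding primes. -/
theorem localRingHom_bijective_mod {W E : Type u} [CommRing W] [CommRing E] (α : W →+* E)
    (Q : Ideal E) [Q.IsPrime] (K : Ideal W) (hKQ : K ≤ Q.comap α)
    (hsurj : ∀ e : E, ∃ w : W, e - α w ∈ K.map α) (hinj : (K.map α).comap α ≤ K) :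
    (∀ y : Localization.AtPrime Q, ∃ x, y - Localization.localRingHom (Q.comap α) Q α rfl x ∈
        (K.map α).map (algebraMap E (Localization.AtPrime Q))) ∧
    ∀ x, Localization.localRingHom (Q.comap α) Q α rfl x ∈ (K.map α).map (algebraMap E (Localization.AtPrime Q)) →
      x ∈ K.map (algebraMap W (Localization.AtPrime (Q.comap α))) := by
  have hKQ' : K.map α ≤ Q := Ideal.map_le_iff_le_comap.mpr hKQ
  constructor
  · intro y
    obtain ⟨⟨c, t⟩, rfl⟩ := IsLocalization.mk'_surjective Q.primeCompl y
    obtain ⟨a, ha⟩ := hsurj c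
    obtain ⟨f, hf⟩ := hsurj t
    have hfq : f ∈ (Q.comap α).primeCompl := fun hfq => t.2 (by
      have := Ideal.add_mem _ (hKQ' hf) (show α f ∈ Q from hfq)
      rwa [sub_add_cancel] at this)
    refine ⟨IsLocalization.mk' _ a ⟨f, hfq⟩, ?_⟩
    rw [Localization.localRingHom_mk', ← IsLocalization.mk'_sub, IsLocalization.mk'_mem_map_algebraMap_iff]
    refine ⟨1, Q.primeCompl.one_mem, ?_⟩
    rw [one_mul]
    show c * α f - α a * t ∈ K.map α
    have := Ideal.sub_mem _ (Ideal.mul_mem_right (α f) (K.map α) ha) (Ideal.mul_mem_left _ (α a) hf)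
    convert this using 1
    ring
  · intro x hx
    obtain ⟨⟨a, s⟩, rfl⟩ := IsLocalization.mk'_surjective (Q.comap α).primeCompl x
    rw [Localization.localRingHom_mk', IsLocalization.mk'_mem_map_algebraMap_iff] at hx
    obtain ⟨t, ht, hta⟩ := hx
    obtain ⟨f, hf⟩ := hsurj t
    rw [IsLocalization.mk'_mem_map_algebraMap_iff]
    refine ⟨f, fun hfq => ht ?_, hinj ?_⟩
    · have := Ideal.add_mem _ (hKQ' hf) (show α f ∈ Q from hfq)
      rwa [sub_add_cancel] at this
    · rw [Ideal.mem_comap, map_mul]
      have := Ideal.sub_mem _ hta (Ideal.mul_mem_right (α a) (K.map α) hf)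
      rwa [← sub_mul, sub_sub_cancel] at this

theorem flat_tensor_localization {CA CC CB : Type u} [CommRing CA] [CommRing CC] [CommRing CB]
    [Algebra CA CC] [Algebra CA CB] (Qw : Ideal (CC ⊗[CA] CB)) [Qw.IsPrime]
    (hflat : Module.Flat CA (Localization.AtPrime
      (Qw.comap (Algebra.TensorProduct.includeRight (R := CA) (A := CC) (B := CB))))) :
    Module.Flat CC (Localization.AtPrime Qw) := by
  let ι : CB →ₐ[CA] CC ⊗[CA] CB := Algebra.TensorProduct.includeRight
  let qB := Qw.comap ι
  have : qB.IsPrime := Ideal.IsPrime.comap _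
  let P := Localization.AtPrime qB
  let W2 := CC ⊗[CA] P
  let j : (CC ⊗[CA] CB) →ₐ[CC] W2 :=
    Algebra.TensorProduct.map (AlgHom.id CC CC) (IsScalarTower.toAlgHom CA CB P)
  letI : Algebra (CC ⊗[CA] CB) W2 := j.toRingHom.toAlgebra
  haveI : IsScalarTower CC (CC ⊗[CA] CB) W2 := IsScalarTower.of_algebraMap_eq fun x => (j.commutes x).symm
  haveI hloc : IsLocalization (qB.primeCompl.map ι) W2 := by
    refine IsLocalization.tensorProduct_tensorProduct_right CA CC qB.primeCompl P (RingHom.ext fun b => ?_)
    simp [RingHom.algebraMap_toAlgebra, j]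
    exact Algebra.TensorProduct.map_tmul _ _ _ _
  have hle : qB.primeCompl.map ι ≤ Qw.primeCompl := by
    rintro _ ⟨b, hb, rfl⟩
    exact hb
  let M := Localization.AtPrime Qw
  have hu : ∀ y : qB.primeCompl.map ι, IsUnit (algebraMap (CC ⊗[CA] CB) M y) := fun y =>
    IsLocalization.map_units (M := Qw.primeCompl) M ⟨y, hle y.2⟩
  letI : Algebra W2 M := (IsLocalization.lift hu).toAlgebra
  haveI : IsScalarTower (CC ⊗[CA] CB) W2 M :=
    IsScalarTower.of_algebraMap_eq fun x => (IsLocalization.lift_eq hu x).symm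
  haveI : IsScalarTower CC W2 M := IsScalarTower.of_algebraMap_eq fun x =>
    (IsScalarTower.algebraMap_apply CC (CC ⊗[CA] CB) M x).trans
      ((IsScalarTower.algebraMap_apply (CC ⊗[CA] CB) W2 M _).trans
        (congrArg (algebraMap W2 M) (IsScalarTower.algebraMap_apply CC (CC ⊗[CA] CB) W2 x).symm))
  haveI : Module.Flat (CC ⊗[CA] CB) M := IsLocalization.flat M Qw.primeCompl
  haveI : Module.Flat W2 M := (Module.flat_iff_of_isLocalization (S := W2) (qB.primeCompl.map ι) M).mpr inferInstance
  haveI : Module.Flat CA P := hflat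
  haveI : Module.Flat CC W2 := Module.Flat.baseChange CA CC P
  exact Module.Flat.trans CC W2 M

/-- Flatness over `CC` at a prime `Q` of a complete ring `E` having the universal property of the completed
tensor product of `CC` and `CB` over `CA`. -/
theorem flat_at_completed_tensor {CA CC CB E : Type u} [CommRing CA] [CommRing CC] [CommRing CB] [CommRing E]
    [IsNoetherianRing CA] [IsNoetherianRing CC] [IsNoetherianRing CB] [IsNoetherianRing E]
    [Algebra CA CC] [Algebra CA CB] [Algebra CA E] [Algebra CC E] [Algebra CB E]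
    [IsScalarTower CA CC E] [IsScalarTower CA CB E] (I : Ideal CA)
    [IsAdicComplete (I.map (algebraMap CA CB)) CB] [IsAdicComplete (I.map (algebraMap CA E)) E]
    (Q : Ideal E) [Q.IsPrime]
    (hfin : Module.Finite CA (CC ⧸ Q.comap (algebraMap CC E)))
    (hflat : Module.Flat CA (Localization.AtPrime (Q.comap (algebraMap CB E))))
    (hex : ∀ (L : Type u) [CommRing L] (K : Ideal L) [IsAdicComplete K L] (a : CC →+* L) (b : CB →+* L),
      a.comp (algebraMap CA CC) = b.comp (algebraMap CA CB) → I.map (a.comp (algebraMap CA CC)) ≤ K →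
        ∃ π : E →+* L, π.comp (algebraMap CC E) = a ∧ π.comp (algebraMap CB E) = b)
    (huniq : ∀ (L : Type u) [CommRing L] (K : Ideal L) [IsHausdorff K L] (π π' : E →+* L),
      I.map (π.comp (algebraMap CA E)) ≤ K → π.comp (algebraMap CC E) = π'.comp (algebraMap CC E) →
        π.comp (algebraMap CB E) = π'.comp (algebraMap CB E) → π = π') :
    ((algebraMap E (Localization.AtPrime Q)).comp (algebraMap CC E)).Flat := by
  let W := CC ⊗[CA] CB
  let iC : CC →ₐ[CA] W := Algebra.TensorProduct.includeLeft
  let iB : CB →ₐ[CA] W := Algebra.TensorProduct.includeRight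
  let α : W →ₐ[CC] E := Algebra.TensorProduct.lift (Algebra.ofId CC E) (IsScalarTower.toAlgHom CA CB E)
    (fun _ _ => Commute.all _ _)
  have hαC : ∀ x, α (iC x) = algebraMap CC E x := fun x => by
    show Algebra.TensorProduct.lift (Algebra.ofId CC E) _ _ (x ⊗ₜ[CA] (1 : CB)) = _
    rw [Algebra.TensorProduct.lift_tmul, map_one, mul_one]
    rfl
  have hαB : ∀ x, α (iB x) = algebraMap CB E x := fun x => by
    show Algebra.TensorProduct.lift (Algebra.ofId CC E) _ _ ((1 : CC) ⊗ₜ[CA] x) = _
    rw [Algebra.TensorProduct.lift_tmul, map_one, one_mul]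
    rfl
  let c := Q.comap (algebraMap CC E)
  have : c.IsPrime := Ideal.IsPrime.comap _
  let Qw := Q.comap α.toRingHom
  have : Qw.IsPrime := Ideal.IsPrime.comap _
  let M := Localization.AtPrime Q
  rw [← IsScalarTower.algebraMap_eq, RingHom.flat_algebraMap_iff]
  have hQB : Qw.comap iB = Q.comap (algebraMap CB E) := by
    ext x
    show α (iB x) ∈ Q ↔ algebraMap CB E x ∈ Q
    rw [hαB]
  haveI hWflat : Module.Flat CC (Localization.AtPrime Qw) := by
    refine flat_tensor_localization Qw ?_
    have key : ∀ (q₁ q₂ : Ideal CB) [q₁.IsPrime] [q₂.IsPrime], q₁ = q₂ →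
        Module.Flat CA (Localization.AtPrime q₂) → Module.Flat CA (Localization.AtPrime q₁) := by
      rintro q₁ q₂ _ _ rfl h
      exact h
    exact key _ _ hQB hflat
  refine LocalCrit.flat_of_forall_quotient_pow (B := M) c ?_ fun n => ?_
  · rw [IsLocalRing.jacobson_eq_maximalIdeal ⊥ bot_ne_top, Ideal.map_le_iff_le_comap]
    intro x hx
    rw [Ideal.mem_comap, IsScalarTower.algebraMap_apply CC E M, ← Localization.AtPrime.map_eq_maximalIdeal]
    exact Ideal.mem_map_of_mem _ hx
  rcases Nat.eq_zero_or_pos n with rfl | hn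
  · intro N N' _ _ _ _ g hN _ _
    have h0 : ∀ x : N, x = 0 := fun x => by
      have := @hN x ⟨1, by simp⟩
      simpa using this
    have : Subsingleton N := ⟨fun x y => by rw [h0 x, h0 y]⟩
    have hz : ∀ z : N ⊗[CC] M, z = 0 := fun z => by
      induction z using TensorProduct.induction_on with
      | zero => rfl
      | tmul x m => rw [h0 x, TensorProduct.zero_tmul]
      | add u v hu hv => rw [hu, hv, add_zero]
    exact fun u v _ => by rw [hz u, hz v]
  -- the finite complete algebra modulo `c ^ n`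
  let K : Ideal W := (c ^ n).map iC
  let L := W ⧸ K
  letI : Algebra CB L := ((Ideal.Quotient.mk K).comp iB.toRingHom).toAlgebra
  haveI : IsScalarTower CA CB L := IsScalarTower.of_algebraMap_eq fun x => by
    show _ = Ideal.Quotient.mk K (iB (algebraMap CA CB x))
    rw [iB.commutes]
    rfl
  have hfn : Module.Finite CA (CC ⧸ c ^ n) := Adic7.finite_quotient_pow CA CC c n
  haveI : Module.Finite CB L := by
    let ρ : (CC ⧸ c ^ n) →ₐ[CA] L := Ideal.Quotient.liftₐ _ ((Ideal.Quotient.mkₐ CA K).comp iC)
      fun x hx => Ideal.Quotient.eq_zero_iff_mem.mpr (Ideal.mem_map_of_mem _ hx)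
    let φ : CB ⊗[CA] (CC ⧸ c ^ n) →ₐ[CB] L :=
      Algebra.TensorProduct.lift (Algebra.ofId CB L) ρ (fun _ _ => Commute.all _ _)
    refine Module.Finite.of_surjective φ.toLinearMap fun z => ?_
    obtain ⟨w, rfl⟩ := Ideal.Quotient.mk_surjective z
    induction w using TensorProduct.induction_on with
    | zero => exact ⟨0, by simp⟩
    | add u v hu hv =>
      obtain ⟨x, hx⟩ := hu
      obtain ⟨y, hy⟩ := hv
      exact ⟨x + y, by rw [map_add, hx, hy, map_add]⟩
    | tmul x y =>
      refine ⟨y ⊗ₜ Ideal.Quotient.mk _ x, ?_⟩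
      show φ (y ⊗ₜ Ideal.Quotient.mk _ x) = _
      rw [Algebra.TensorProduct.lift_tmul]
      show Ideal.Quotient.mk K (iB y) * Ideal.Quotient.mk K (iC x) = Ideal.Quotient.mk K (x ⊗ₜ y)
      rw [← map_mul, Algebra.TensorProduct.includeRight_apply, Algebra.TensorProduct.includeLeft_apply,
        Algebra.TensorProduct.tmul_mul_tmul, one_mul, mul_one]
  have hL : IsAdicComplete ((I.map (algebraMap CA CB)).map (algebraMap CB L)) L := by
    have : IsAdicComplete (I.map (algebraMap CA CB)) L := Adic7.isAdicComplete_of_finite _ L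
    exact (IsAdicComplete.map_algebraMap_iff (S := L) _ L).mpr this
  let a : CC →+* L := (Ideal.Quotient.mk K).comp iC.toRingHom
  let b : CB →+* L := (Ideal.Quotient.mk K).comp iB.toRingHom
  obtain ⟨π, hπC, hπB⟩ := hex L ((I.map (algebraMap CA CB)).map (algebraMap CB L)) a b (RingHom.ext fun x => by
      show Ideal.Quotient.mk K (iC (algebraMap CA CC x)) = Ideal.Quotient.mk K (iB (algebraMap CA CB x))
      rw [iC.commutes, iB.commutes]) (by
      rw [Ideal.map_map]
      refine le_of_eq (congrArg (fun φ => Ideal.map φ I) (RingHom.ext fun x => ?_))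
      show Ideal.Quotient.mk K (iC (algebraMap CA CC x)) = Ideal.Quotient.mk K (iB (algebraMap CA CB x))
      rw [iC.commutes, iB.commutes])
  have hπα : ∀ w, π (α w) = Ideal.Quotient.mk K w := fun w => by
    induction w using TensorProduct.induction_on with
    | zero => simp
    | add u v hu hv => rw [map_add, map_add, hu, hv, map_add]
    | tmul x y =>
      have h : (x ⊗ₜ y : W) = iC x * iB y := by
        show _ = (x ⊗ₜ[CA] (1 : CB)) * ((1 : CC) ⊗ₜ[CA] y)
        rw [Algebra.TensorProduct.tmul_mul_tmul, mul_one, one_mul]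
      rw [h, map_mul, map_mul, hαC, hαB, ← RingHom.comp_apply π, hπC, ← RingHom.comp_apply π, hπB]
      exact (map_mul (Ideal.Quotient.mk K) (iC x) (iB y)).symm
  have hKE : K.map α.toRingHom = (c ^ n).map (algebraMap CC E) := by
    show ((c ^ n).map iC.toRingHom).map α.toRingHom = _
    rw [Ideal.map_map]
    exact congrArg (fun φ => Ideal.map φ (c ^ n)) (RingHom.ext hαC)
  have hinj : (K.map α.toRingHom).comap α.toRingHom ≤ K := fun w hw => by
    have h0 : (K.map α.toRingHom).map π = ⊥ := by
      rw [hKE, Ideal.map_map, hπC, Ideal.map_eq_bot_iff_le_ker]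
      intro x hx
      exact Ideal.Quotient.eq_zero_iff_mem.mpr (Ideal.mem_map_of_mem _ hx)
    have hw' : α.toRingHom w ∈ K.map α.toRingHom := hw
    have := Ideal.mem_map_of_mem π hw'
    rw [h0, Ideal.mem_bot] at this
    replace this : π (α w) = 0 := this
    rw [hπα] at this
    exact Ideal.Quotient.eq_zero_iff_mem.mp this
  have hsurj : ∀ e : E, ∃ w : W, e - α.toRingHom w ∈ K.map α.toRingHom := by
    let E' := E ⧸ K.map α.toRingHom
    let ᾱ : L →+* E' := Ideal.quotientMap _ α.toRingHom Ideal.le_comap_map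
    haveI : IsHausdorff (I.map (algebraMap CA E)) E' :=
      IsHausdorff.of_le_jacobson _ E' (IsAdicComplete.le_jacobson_bot _)
    haveI : IsHausdorff ((I.map (algebraMap CA E)).map (Ideal.Quotient.mk (K.map α.toRingHom))) E' :=
      (IsHausdorff.map_algebraMap_iff (S := E') (I := I.map (algebraMap CA E))).mpr inferInstance
    have hid : ᾱ.comp π = Ideal.Quotient.mk _ := by
      have hC : (ᾱ.comp π).comp (algebraMap CC E) = (Ideal.Quotient.mk _).comp (algebraMap CC E) := RingHom.ext fun x => by
        show ᾱ (π (algebraMap CC E x)) = Ideal.Quotient.mk _ (algebraMap CC E x)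
        rw [← RingHom.comp_apply π, hπC, ← hαC]
        rfl
      have hB : (ᾱ.comp π).comp (algebraMap CB E) = (Ideal.Quotient.mk _).comp (algebraMap CB E) := RingHom.ext fun x => by
        show ᾱ (π (algebraMap CB E x)) = Ideal.Quotient.mk _ (algebraMap CB E x)
        rw [← RingHom.comp_apply π, hπB, ← hαB]
        rfl
      refine huniq E' ((I.map (algebraMap CA E)).map (Ideal.Quotient.mk _)) _ _ ?_ hC hB
      rw [IsScalarTower.algebraMap_eq CA CC E, ← RingHom.comp_assoc, hC, RingHom.comp_assoc, Ideal.map_map]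
    intro e
    obtain ⟨w, hw⟩ := Ideal.Quotient.mk_surjective (π e)
    refine ⟨w, Ideal.Quotient.eq.mp ?_⟩
    rw [← hid, RingHom.comp_apply, RingHom.comp_apply, ← hw]
    exact congrArg ᾱ (hπα w).symm
  have hKQ : K ≤ Qw := Ideal.map_le_iff_le_comap.mpr fun x hx => by
    show α (iC x) ∈ Q
    rw [hαC]
    exact (Ideal.pow_le_self hn.ne' hx : x ∈ c)
  obtain ⟨h1, h2⟩ := localRingHom_bijective_mod α.toRingHom Q K hKQ hsurj hinj
  let β : Localization.AtPrime Qw →ₐ[CC] M :=
    { Localization.localRingHom Qw Q α.toRingHom rfl with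
      commutes' := fun x => by
        show Localization.localRingHom Qw Q α.toRingHom rfl (algebraMap CC _ x) = _
        rw [IsScalarTower.algebraMap_apply CC W (Localization.AtPrime Qw), Localization.localRingHom_to_map,
          IsScalarTower.algebraMap_apply CC E M]
        exact congrArg (algebraMap E M) (hαC x) }
  have hmapE : (K.map α.toRingHom).map (algebraMap E M) = (c ^ n).map (algebraMap CC M) := by
    rw [hKE, Ideal.map_map, ← IsScalarTower.algebraMap_eq]
  refine LocalCrit.keepsInjective_of_bijective_mod (c ^ n) β (fun y => ?_) fun x hx => ?_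
  · obtain ⟨x, hx⟩ := h1 y
    exact ⟨x, hmapE ▸ hx⟩
  · have := h2 x (hmapE ▸ hx)
    rw [IsScalarTower.algebraMap_eq CC W (Localization.AtPrime Qw), ← Ideal.map_map]
    exact this

end Groth.Agent.RigPt7
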