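import Mathlib
import Groth.Agent.RigPt7.TensorCore
import Groth.Agent.RigPt7.EtaleBC

/-! Rig-flatness is stable under completed base change. -/

universe u

namespace Groth.Agent.RigPt7

open scoped TensorProduct

theorem finiteType_quotient_tensor (A : Type u) [CommRing A] (I : Ideal A) (C B : Type u) [CommRing C] [CommRing B]
    [Algebra A C] [Algebra A B] [Algebra.FiniteType A (C ⧸ I.map (algebraMap A C))]
    [Algebra.FiniteType A (B ⧸ I.map (algebraMap A B))] :
    Algebra.FiniteType A ((C ⊗[A] B) ⧸ I.map (algebraMap A (C ⊗[A] B))) := by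
  let J := I.map (algebraMap A (C ⊗[A] B))
  let iC : (C ⧸ I.map (algebraMap A C)) →ₐ[A] (C ⊗[A] B) ⧸ J :=
    Ideal.Quotient.liftₐ _ ((Ideal.Quotient.mkₐ A J).comp Algebra.TensorProduct.includeLeft) fun x hx => by
      refine Ideal.Quotient.eq_zero_iff_mem.mpr ?_
      have h := Ideal.mem_map_of_mem ((Algebra.TensorProduct.includeLeft : C →ₐ[A] C ⊗[A] B) : C →+* C ⊗[A] B) hx
      rw [Ideal.map_map, AlgHom.comp_algebraMap] at h
      exact h
  let iB : (B ⧸ I.map (algebraMap A B)) →ₐ[A] (C ⊗[A] B) ⧸ J :=
    Ideal.Quotient.liftₐ _ ((Ideal.Quotient.mkₐ A J).comp Algebra.TensorProduct.includeRight) fun x hx => by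
      refine Ideal.Quotient.eq_zero_iff_mem.mpr ?_
      have h := Ideal.mem_map_of_mem ((Algebra.TensorProduct.includeRight : B →ₐ[A] C ⊗[A] B) : B →+* C ⊗[A] B) hx
      rw [Ideal.map_map, AlgHom.comp_algebraMap] at h
      exact h
  have : Algebra.FiniteType A ((C ⧸ I.map (algebraMap A C)) ⊗[A] (B ⧸ I.map (algebraMap A B))) :=
    Algebra.FiniteType.trans (S := C ⧸ I.map (algebraMap A C)) inferInstance inferInstance
  let Φ := Algebra.TensorProduct.lift iC iB (fun _ _ => Commute.all _ _)
  refine this.of_surjective Φ fun z => ?_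
  obtain ⟨w, rfl⟩ := Ideal.Quotient.mk_surjective z
  induction w using TensorProduct.induction_on with
  | zero => exact ⟨0, by simp⟩
  | add u v hu hv =>
    obtain ⟨x, hx⟩ := hu
    obtain ⟨y, hy⟩ := hv
    exact ⟨x + y, by rw [map_add, hx, hy, map_add]⟩
  | tmul x y =>
    refine ⟨Ideal.Quotient.mk _ x ⊗ₜ Ideal.Quotient.mk _ y, ?_⟩
    rw [Algebra.TensorProduct.lift_tmul]
    show Ideal.Quotient.mk J (x ⊗ₜ 1) * Ideal.Quotient.mk J (1 ⊗ₜ y) = _
    rw [← map_mul, Algebra.TensorProduct.tmul_mul_tmul, mul_one, one_mul]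

theorem rigFlat_baseChange (A : Type u) [CommRing A] [IsNoetherianRing A] (I : Ideal A) [IsAdicComplete I A]
    (B : Type u) [CommRing B] [Algebra A B] [IsNoetherianRing B]
    (hft : Algebra.FiniteType A (B ⧸ I.map (algebraMap A B)))
    (hAB : ∀ (f : A) (ψ : AdicCompletion (I.map (algebraMap A (Localization.Away f))) (Localization.Away f) →+*
        AdicCompletion ((I.map (algebraMap A B)).map (algebraMap B (Localization.Away (algebraMap A B f))))
          (Localization.Away (algebraMap A B f))),
      (∀ a : A, ψ (algebraMap A _ a) = algebraMap B _ (algebraMap A B a)) →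
      ∀ q : Ideal (AdicCompletion ((I.map (algebraMap A B)).map (algebraMap B (Localization.Away (algebraMap A B f))))
          (Localization.Away (algebraMap A B f))), ∀ [q.IsPrime],
      ¬ (I.map (algebraMap A B)).map (algebraMap B _) ≤ q →
      ((algebraMap _ (Localization.AtPrime q)).comp ψ).Flat)
    (C : Type u) [CommRing C] [Algebra A C] [IsNoetherianRing C]
    (hftC : Algebra.FiniteType A (C ⧸ I.map (algebraMap A C))) (h : C)
    (D : Type u) [CommRing D] [Algebra A D] [Algebra C D] [IsScalarTower A C D]
    (L0 : Ideal (C ⊗[A] B)) (hL0 : L0 = (I.map (algebraMap A C)).map (algebraMap C (C ⊗[A] B)))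
    (e : AdicCompletion L0 (C ⊗[A] B) →+* D) (he : Function.Bijective e)
    (heC : ∀ x : C, e (algebraMap C _ x) = algebraMap C D x)
    (h' : D) (hh' : h' = algebraMap C D h)
    (K : Ideal D) (hK : K = (I.map (algebraMap A C)).map (algebraMap C D))
    (ψh : AdicCompletion ((I.map (algebraMap A C)).map (algebraMap C (Localization.Away h))) (Localization.Away h) →+*
      AdicCompletion (K.map (algebraMap D (Localization.Away h'))) (Localization.Away h'))
    (hψh : ∀ x : C, ψh (algebraMap C _ x) = algebraMap D _ (algebraMap C D x))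
    (q' : PrimeSpectrum (AdicCompletion (K.map (algebraMap D (Localization.Away h'))) (Localization.Away h')))
    (hq' : ¬ K.map (algebraMap D _) ≤ q'.asIdeal ∧ ∀ y, q' ≤ y →
      ¬ K.map (algebraMap D (AdicCompletion (K.map (algebraMap D (Localization.Away h'))) (Localization.Away h'))) ≤ y.asIdeal → y = q') :
    ((algebraMap _ (Localization.AtPrime q'.asIdeal)).comp ψh).Flat := by
  let IC := I.map (algebraMap A C)
  let T0 := C ⊗[A] B
  let D0 := AdicCompletion L0 T0
  have hL0A : L0 = I.map (algebraMap A T0) := hL0.trans (map_algebraMap I)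
  have hKA : K = I.map (algebraMap A D) := hK.trans (map_algebraMap I)
  have heA : ∀ a : A, e (algebraMap A D0 a) = algebraMap A D a := fun a => by
    rw [IsScalarTower.algebraMap_apply A C D0, heC, ← IsScalarTower.algebraMap_apply A C D]
  let eA : D0 →ₐ[A] D := { e with commutes' := heA }
  have : Algebra.FiniteType A (C ⧸ IC) := hftC
  have hftT0 : Algebra.FiniteType A (T0 ⧸ I.map (algebraMap A T0)) := finiteType_quotient_tensor A I C B
  have hftD0 : Algebra.FiniteType A (D0 ⧸ I.map (algebraMap A D0)) :=
    finiteType_quotient_compl (R := T0) I inferInstance L0 hL0A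
  have hcD0 : IsAdicComplete (I.map (algebraMap A D0)) D0 :=
    ((congrArg (Ideal.map (algebraMap T0 D0)) hL0A).trans (map_algebraMap I)) ▸
      AdicCompletion.isAdicComplete_self L0 (hL0A ▸ Ideal.FG.map (IsNoetherian.noetherian I) _)
  have : IsNoetherianRing (D0 ⧸ I.map (algebraMap A D0)) := Algebra.FiniteType.isNoetherianRing A _
  have : IsNoetherianRing D0 :=
    LocalCrit.isNoetherianRing_of_isAdicComplete (I.map (algebraMap A D0)) (Ideal.FG.map (IsNoetherian.noetherian I) _)
  have : IsNoetherianRing D := isNoetherianRing_of_surjective D0 D e he.2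
  have hftD : Algebra.FiniteType A (D ⧸ I.map (algebraMap A D)) := by
    refine hftD0.of_surjective (Ideal.Quotient.liftₐ _ ((Ideal.Quotient.mkₐ A _).comp eA) fun x hx => ?_) fun z => ?_
    · refine Ideal.Quotient.eq_zero_iff_mem.mpr ?_
      have h := Ideal.mem_map_of_mem (eA : D0 →+* D) hx
      rw [Ideal.map_map, AlgHom.comp_algebraMap] at h
      exact h
    · obtain ⟨z, rfl⟩ := Ideal.Quotient.mk_surjective z
      obtain ⟨x, rfl⟩ := he.2 z
      exact ⟨Ideal.Quotient.mk _ x, rfl⟩
  let Th := Localization.Away h
  let TD := Localization.Away h'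
  let E := AdicCompletion (K.map (algebraMap D TD)) TD
  have : IsNoetherianRing Th := IsLocalization.isNoetherianRing (Submonoid.powers h) _ inferInstance
  have : IsNoetherianRing TD := IsLocalization.isNoetherianRing (Submonoid.powers h') _ inferInstance
  have : IsNoetherianRing E := FComplLib.isNoetherianRing_adicCompletion _
  let IE : Ideal E := I.map (algebraMap A E)
  have hKE : K.map (algebraMap D E) = IE := (congrArg (Ideal.map (algebraMap D E)) hKA).trans (map_algebraMap I)
  have hcompl : IsAdicComplete IE E := ((map_algebraMap (A := D) (R := TD) (C := E) K).trans hKE) ▸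
      AdicCompletion.isAdicComplete_self (K.map (algebraMap D TD)) (IsNoetherian.noetherian _)
  have hftE : Algebra.FiniteType A (E ⧸ IE) :=
    finiteType_quotient_compl I (IsLocalization.finiteType_of_monoid_fg (Submonoid.powers h') TD)
      (K.map (algebraMap D TD)) ((congrArg (Ideal.map _) hKA).trans (map_algebraMap I))
  have hq'E : ¬ IE ≤ q'.asIdeal ∧ ∀ y : PrimeSpectrum E, q' ≤ y → ¬ IE ≤ y.asIdeal → y = q' := hKE ▸ hq'
  obtain ⟨f, hfu, hbelow⟩ := exists_rig_closed_below A I E hftE q' hq'E
  let TA := Localization.Away f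
  let TE := Localization.Away (algebraMap A E f)
  let TB := Localization.Away (algebraMap A B f)
  let TC := Localization.Away (h * algebraMap A C f)
  have : IsNoetherianRing TA := IsLocalization.isNoetherianRing (Submonoid.powers f) _ inferInstance
  have : IsNoetherianRing TE := IsLocalization.isNoetherianRing (Submonoid.powers (algebraMap A E f)) _ inferInstance
  have : IsNoetherianRing TB := IsLocalization.isNoetherianRing (Submonoid.powers (algebraMap A B f)) _ inferInstance
  have : IsNoetherianRing TC := IsLocalization.isNoetherianRing (Submonoid.powers (h * algebraMap A C f)) _ inferInstance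
  let CA := AdicCompletion (I.map (algebraMap A TA)) TA
  let CB := AdicCompletion ((I.map (algebraMap A B)).map (algebraMap B TB)) TB
  let CC := AdicCompletion (IC.map (algebraMap C TC)) TC
  let E2 := AdicCompletion (IE.map (algebraMap E TE)) TE
  have : IsNoetherianRing CA := FComplLib.isNoetherianRing_adicCompletion _
  have : IsNoetherianRing CB := FComplLib.isNoetherianRing_adicCompletion _
  have : IsNoetherianRing CC := FComplLib.isNoetherianRing_adicCompletion _
  have : IsNoetherianRing E2 := FComplLib.isNoetherianRing_adicCompletion _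
  let K2 : Ideal E2 := (IE.map (algebraMap E TE)).map (algebraMap TE E2)
  have hE2 : IsAdicComplete K2 E2 := AdicCompletion.isAdicComplete_self _ (IsNoetherian.noetherian _)
  have hIK2 : I.map ((algebraMap E E2).comp (algebraMap A E)) = K2 :=
    ((map_algebraMap (A := E) (R := TE) (C := E2) IE).trans (Ideal.map_map _ _)).symm
  have hAE2 : (algebraMap E E2).comp (algebraMap A E) = algebraMap A E2 := (IsScalarTower.algebraMap_eq A E E2).symm
  -- the maps
  obtain ⟨ψ0, hψ0⟩ : ∃ φ : CA →+* E2, ∀ a, φ (algebraMap A CA a) = algebraMap E E2 (algebraMap A E a) := by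
    obtain ⟨φ, hφ⟩ := exists_lift_compl (I.map (algebraMap A TA)) K2
      ((algebraMap TE E2).comp (Localization.awayMap (algebraMap A E) f)) (by
        refine ((map_map_eq I ?_).trans hIK2).le
        rw [RingHom.comp_assoc, Localization.awayMap, IsLocalization.Away.map, IsLocalization.map_comp,
          ← RingHom.comp_assoc, ← IsScalarTower.algebraMap_eq E TE E2])
    refine ⟨φ, fun a => ?_⟩
    rw [IsScalarTower.algebraMap_apply A TA CA]
    refine (RingHom.congr_fun hφ (algebraMap A TA a)).trans ?_
    simp [Localization.awayMap, IsLocalization.Away.map, IsLocalization.map_eq, IsScalarTower.algebraMap_apply E TE E2,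
      TA, TE]
  obtain ⟨hp, hpI, hpmax⟩ := hbelow TA TE ψ0 hψ0
  obtain ⟨hQ, hbij⟩ := ker_complMap_eq (A := E) IE q'.asIdeal (algebraMap A E f) hfu TE
  let Q := q'.asIdeal.map (algebraMap E E2)
  have hQE : Q.comap (algebraMap E E2) = q'.asIdeal := by
    refine le_antisymm (fun x hx => ?_) Ideal.le_comap_map
    refine Ideal.Quotient.eq_zero_iff_mem.mp (hbij.1 ?_)
    rw [Ideal.quotientMap_mk, map_zero, Ideal.Quotient.eq_zero_iff_mem]
    exact hx
  have hQI : ¬ K2 ≤ Q := fun hle => hq'E.1 (by
    rw [← hQE, ← Ideal.map_le_iff_le_comap]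
    exact ((map_algebraMap (A := E) (R := TE) (C := E2) IE).symm.le).trans hle)
  let θC : C →+* E2 := (algebraMap E E2).comp ((algebraMap D E).comp (algebraMap C D))
  let θB : B →+* E2 := (algebraMap E E2).comp ((algebraMap D E).comp
    (e.comp ((algebraMap T0 D0).comp (Algebra.TensorProduct.includeRight : B →ₐ[A] T0).toRingHom)))
  have hθCA : θC.comp (algebraMap A C) = (algebraMap E E2).comp (algebraMap A E) := by
    rw [RingHom.comp_assoc, RingHom.comp_assoc, ← IsScalarTower.algebraMap_eq A C D, ← IsScalarTower.algebraMap_eq]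
  have hθBA : θB.comp (algebraMap A B) = (algebraMap E E2).comp (algebraMap A E) := RingHom.ext fun a => by
    show algebraMap E E2 (algebraMap D E (e (algebraMap T0 D0 ((Algebra.TensorProduct.includeRight : B →ₐ[A] T0) (algebraMap A B a))))) = _
    rw [AlgHom.commutes, ← IsScalarTower.algebraMap_apply A T0 D0, heA, ← IsScalarTower.algebraMap_apply A D E]
    rfl
  obtain ⟨ψC, hψC⟩ : ∃ φ : CC →+* E2, φ.comp (algebraMap C CC) = θC := by
    have hunit : IsUnit (θC (h * algebraMap A C f)) := by
      rw [map_mul]
      refine IsUnit.mul ?_ ?_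
      · show IsUnit (algebraMap E E2 (algebraMap D E (algebraMap C D h)))
        rw [← hh', IsScalarTower.algebraMap_apply D TD E]
        exact ((IsLocalization.Away.algebraMap_isUnit h').map _).map _
      · rw [← RingHom.comp_apply, hθCA, RingHom.comp_apply, IsScalarTower.algebraMap_apply E TE E2]
        exact (IsLocalization.Away.algebraMap_isUnit (algebraMap A E f)).map _
    obtain ⟨φ, hφ⟩ := exists_lift_compl (IC.map (algebraMap C TC)) K2
      (IsLocalization.Away.lift (h * algebraMap A C f) hunit) (by
        exact ((map_map_eq _ (IsLocalization.Away.lift_comp _ hunit)).trans ((map_map_eq I hθCA).trans hIK2)).le)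
    refine ⟨φ, ?_⟩
    rw [IsScalarTower.algebraMap_eq C TC CC, ← RingHom.comp_assoc, hφ, IsLocalization.Away.lift_comp]
  obtain ⟨ψB, hψB⟩ : ∃ φ : CB →+* E2, φ.comp (algebraMap B CB) = θB := by
    have hunit : IsUnit (θB (algebraMap A B f)) := by
      rw [← RingHom.comp_apply θB, hθBA, RingHom.comp_apply, IsScalarTower.algebraMap_apply E TE E2]
      exact (IsLocalization.Away.algebraMap_isUnit (algebraMap A E f)).map _
    obtain ⟨φ, hφ⟩ := exists_lift_compl ((I.map (algebraMap A B)).map (algebraMap B TB)) K2
      (IsLocalization.Away.lift (algebraMap A B f) hunit) (by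
        exact ((map_map_eq _ (IsLocalization.Away.lift_comp _ hunit)).trans ((map_map_eq I hθBA).trans hIK2)).le)
    refine ⟨φ, ?_⟩
    rw [IsScalarTower.algebraMap_eq B TB CB, ← RingHom.comp_assoc, hφ, IsLocalization.Away.lift_comp]
  have hfC : IsUnit (algebraMap A TC f) := by
    rw [IsScalarTower.algebraMap_apply A C TC]
    exact isUnit_of_mul_isUnit_right (x := algebraMap C TC h)
      (by rw [← map_mul]; exact IsLocalization.Away.algebraMap_isUnit _)
  have hhC : IsUnit (algebraMap C TC h) :=
    isUnit_of_mul_isUnit_left (y := algebraMap C TC (algebraMap A C f))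
      (by rw [← map_mul]; exact IsLocalization.Away.algebraMap_isUnit _)
  let v : TA →+* TC := IsLocalization.Away.lift f hfC
  let w : Th →+* TC := IsLocalization.Away.lift h hhC
  have hvA : v.comp (algebraMap A TA) = algebraMap A TC := IsLocalization.Away.lift_comp f hfC
  have hwA : w.comp (algebraMap C Th) = algebraMap C TC := IsLocalization.Away.lift_comp h hhC
  have hJv : (I.map (algebraMap A TA)).map v = IC.map (algebraMap C TC) := by
    exact (map_map_eq I hvA).trans (map_algebraMap I).symm
  have hJw : (IC.map (algebraMap C Th)).map w = IC.map (algebraMap C TC) := map_map_eq IC hwA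
  have hwflat : w.Flat := flat_of_flat_comp_algebraMap (Submonoid.powers h) w (by
    rw [hwA]; exact RingHom.flat_algebraMap_iff.mpr (IsLocalization.flat TC (Submonoid.powers (h * algebraMap A C f))))
  let ψa := FSch.complMap _ _ v hJv.le
  let ψ1 := FSch.complMap _ _ w hJw.le
  have hψaA : ∀ a, ψa (algebraMap A CA a) = algebraMap A CC a := fun a => by
    rw [IsScalarTower.algebraMap_apply A TA CA, IsScalarTower.algebraMap_apply A TC CC]
    refine (FComplLib.complMap_algebraMap _ _ v hJv.le _).trans ?_
    rw [← RingHom.comp_apply v, hvA]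
  have hψ1C : ∀ x : C, ψ1 (algebraMap C _ x) = algebraMap C CC x := fun x => by
    rw [IsScalarTower.algebraMap_apply C Th _, IsScalarTower.algebraMap_apply C TC CC]
    refine (FComplLib.complMap_algebraMap _ _ w hJw.le _).trans ?_
    rw [← RingHom.comp_apply w, hwA]
  let hJu : (I.map (algebraMap A TA)).map (Localization.awayMap (algebraMap A B) f) =
      (I.map (algebraMap A B)).map (algebraMap B TB) :=
    (map_map_eq I (IsLocalization.map_comp _)).trans (Ideal.map_map _ _).symm
  let ψf := FSch.complMap _ _ _ hJu.le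
  have hψfA : ∀ a, ψf (algebraMap A CA a) = algebraMap B CB (algebraMap A B a) := fun a => by
    rw [IsScalarTower.algebraMap_apply A TA CA, IsScalarTower.algebraMap_apply B TB CB]
    refine (FComplLib.complMap_algebraMap _ _ _ hJu.le _).trans ?_
    refine congrArg (algebraMap TB CB) ?_
    exact IsLocalization.map_eq _ a
  have hC0 : ψC.comp ψa = ψ0 := by
    have hA : ∀ a, ψC (ψa (algebraMap A CA a)) = ψ0 (algebraMap A CA a) := fun a => by
      rw [hψaA, hψ0, IsScalarTower.algebraMap_apply A C CC, ← RingHom.comp_apply ψC, hψC]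
      exact RingHom.congr_fun hθCA a
    refine hom_ext_away (Submonoid.powers f) I K2 _ _ hA ?_
    rw [show (ψC.comp ψa).comp (algebraMap A CA) = (algebraMap E E2).comp (algebraMap A E) from
      RingHom.ext fun a => (hA a).trans (hψ0 a)]
    exact hIK2.le
  have hB0 : ψB.comp ψf = ψ0 := by
    have hA : ∀ a, ψB (ψf (algebraMap A CA a)) = ψ0 (algebraMap A CA a) := fun a => by
      rw [hψfA, hψ0, ← RingHom.comp_apply ψB, hψB]
      exact RingHom.congr_fun hθBA a
    refine hom_ext_away (Submonoid.powers f) I K2 _ _ hA ?_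
    rw [show (ψB.comp ψf).comp (algebraMap A CA) = (algebraMap E E2).comp (algebraMap A E) from
      RingHom.ext fun a => (hA a).trans (hψ0 a)]
    exact hIK2.le
  -- algebra structures
  letI : Algebra CA E2 := ψ0.toAlgebra
  letI : Algebra CA CC := ψa.toAlgebra
  letI : Algebra CA CB := ψf.toAlgebra
  letI : Algebra CC E2 := ψC.toAlgebra
  letI : Algebra CB E2 := ψB.toAlgebra
  haveI : IsScalarTower CA CC E2 := IsScalarTower.of_algebraMap_eq' hC0.symm
  haveI : IsScalarTower CA CB E2 := IsScalarTower.of_algebraMap_eq' hB0.symm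
  haveI : IsScalarTower A CA E2 := IsScalarTower.of_algebraMap_eq fun a => by
    show _ = ψ0 (algebraMap A CA a)
    rw [hψ0]
    exact IsScalarTower.algebraMap_apply A E E2 a
  have hCA : IsAdicComplete (I.map (algebraMap A CA)) CA :=
    (map_algebraMap (A := A) (R := TA) (C := CA) I) ▸
      AdicCompletion.isAdicComplete_self (I.map (algebraMap A TA)) (IsNoetherian.noetherian _)
  have hICB : (I.map (algebraMap A CA)).map (algebraMap CA CB) = ((I.map (algebraMap A B)).map (algebraMap B TB)).map (algebraMap TB CB) := by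
    refine (map_map_eq I (h := (algebraMap B CB).comp (algebraMap A B)) (RingHom.ext hψfA)).trans ?_
    exact ((map_algebraMap (A := B) (R := TB) (C := CB) _).trans (Ideal.map_map _ _)).symm
  haveI : IsAdicComplete ((I.map (algebraMap A CA)).map (algebraMap CA CB)) CB :=
    hICB.symm ▸ AdicCompletion.isAdicComplete_self _ (IsNoetherian.noetherian _)
  have hIE2 : (I.map (algebraMap A CA)).map (algebraMap CA E2) = K2 :=
    (map_map_eq I (h := (algebraMap E E2).comp (algebraMap A E)) (RingHom.ext hψ0)).trans hIK2
  haveI : IsAdicComplete ((I.map (algebraMap A CA)).map (algebraMap CA E2)) E2 := hIE2.symm ▸ hE2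
  -- finiteness over the completed localization of `A`
  have hfinE : Module.Finite CA (E2 ⧸ Q) := by
    have hft2 : Algebra.FiniteType CA (E2 ⧸ (I.map (algebraMap A CA)).map (algebraMap CA E2)) := by
      rw [hIE2, ← hIK2, hAE2]
      have : Algebra.FiniteType A (E ⧸ I.map (algebraMap A E)) := hftE
      have := finiteType_quotient_compl I (IsLocalization.finiteType_of_monoid_fg
        (Submonoid.powers (algebraMap A E f)) TE) (IE.map (algebraMap E TE)) (map_algebraMap I)
      exact Algebra.FiniteType.of_restrictScalars_finiteType A CA _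
    have h01 := (tfae_rig_closed IE q').out 0 1 (by rfl) (by rfl)
    have hd : ringKrullDim (E ⧸ q'.asIdeal) = 1 := (h01.mp hq'E).1
    have hQI' : ¬ (I.map (algebraMap A CA)).map (algebraMap CA E2) ≤ Q := hIE2 ▸ hQI
    have hQrc : ¬ (I.map (algebraMap A CA)).map (algebraMap CA E2) ≤ Q ∧ ∀ y : PrimeSpectrum E2,
        (⟨Q, hQ⟩ : PrimeSpectrum E2) ≤ y → ¬ (I.map (algebraMap A CA)).map (algebraMap CA E2) ≤ y.asIdeal →
          y = ⟨Q, hQ⟩ := by
      have h10 := (tfae_rig_closed ((I.map (algebraMap A CA)).map (algebraMap CA E2)) (⟨Q, hQ⟩ : PrimeSpectrum E2)).out 1 0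
        (by rfl) (by rfl)
      exact h10.mp (And.intro ((ringKrullDim_eq_of_ringEquiv (RingEquiv.ofBijective _ hbij)).symm.trans hd) hQI')
    have h23 := (tfae_rig_closed_comap CA (I.map (algebraMap A CA)) E2 hft2 ⟨Q, hQ⟩ hQrc).out 1 2 (by rfl) (by rfl)
    exact h23.mp ⟨hpI, fun y hy hyI => PrimeSpectrum.ext (hpmax y hy hyI)⟩
  have hfinC : Module.Finite CA (CC ⧸ Q.comap (algebraMap CC E2)) := Module.Finite.of_injective
    (Ideal.quotientMapₐ (R₁ := CA) Q (IsScalarTower.toAlgHom CA CC E2) le_rfl).toLinearMap Ideal.quotientMap_injective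
  have hQ2I : ¬ (I.map (algebraMap A B)).map (algebraMap B CB) ≤ Q.comap ψB := fun hle => hQI (by
    refine le_trans (le_of_eq ?_) (Ideal.map_le_iff_le_comap.mpr hle)
    exact ((map_map_eq _ hψB).trans ((map_map_eq I hθBA).trans hIK2)).symm)
  have hflatB : Module.Flat CA (Localization.AtPrime (Q.comap (algebraMap CB E2))) := by
    haveI : (Q.comap ψB).IsPrime := Ideal.IsPrime.comap ψB
    have hfl := hAB f ψf hψfA (Q.comap ψB) hQ2I
    exact RingHom.flat_algebraMap_iff.mp ((IsScalarTower.algebraMap_eq CA CB (Localization.AtPrime (Q.comap (algebraMap CB E2)))).symm ▸ hfl)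
  -- universal property
  have hex : ∀ (L : Type u) [CommRing L] (KL : Ideal L) [IsAdicComplete KL L] (a : CC →+* L) (b : CB →+* L),
      a.comp (algebraMap CA CC) = b.comp (algebraMap CA CB) →
      (I.map (algebraMap A CA)).map (a.comp (algebraMap CA CC)) ≤ KL →
        ∃ π : E2 →+* L, π.comp (algebraMap CC E2) = a ∧ π.comp (algebraMap CB E2) = b := by
    intro L _ KL _ a b hab hK0
    let lA : A →+* L := (a.comp (algebraMap CA CC)).comp (algebraMap A CA)
    letI : Algebra A L := lA.toAlgebra
    have hlA : I.map lA ≤ KL := (Ideal.map_map _ _).symm.le.trans hK0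
    have haA : (a.comp (algebraMap C CC)).comp (algebraMap A C) = lA := RingHom.ext fun x => by
      show a (algebraMap C CC (algebraMap A C x)) = a (ψa (algebraMap A CA x))
      rw [hψaA, ← IsScalarTower.algebraMap_apply A C CC]
    have hbA : (b.comp (algebraMap B CB)).comp (algebraMap A B) = lA := RingHom.ext fun x => by
      show b (algebraMap B CB (algebraMap A B x)) = lA x
      rw [← hψfA]
      exact (RingHom.congr_fun hab (algebraMap A CA x)).symm
    let fC : C →ₐ[A] L := { a.comp (algebraMap C CC) with commutes' := RingHom.congr_fun haA }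
    let fB : B →ₐ[A] L := { b.comp (algebraMap B CB) with commutes' := RingHom.congr_fun hbA }
    let φ0 : T0 →ₐ[A] L := Algebra.TensorProduct.lift fC fB (fun _ _ => Commute.all _ _)
    have hφ0C : ∀ x, φ0 (algebraMap C T0 x) = a (algebraMap C CC x) := fun x => by
      show φ0 (x ⊗ₜ (1 : B)) = _
      rw [Algebra.TensorProduct.lift_tmul, map_one, mul_one]
      rfl
    have hφ0B : ∀ y, φ0 ((Algebra.TensorProduct.includeRight : B →ₐ[A] T0) y) = b (algebraMap B CB y) := fun y => by
      show φ0 ((1 : C) ⊗ₜ y) = _
      rw [Algebra.TensorProduct.lift_tmul, map_one, one_mul]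
      rfl
    obtain ⟨π0, hπ0⟩ := exists_lift_compl L0 KL φ0.toRingHom (by
      rw [hL0A, Ideal.map_map, AlgHom.toRingHom_eq_coe, AlgHom.comp_algebraMap]
      exact hlA)
    let ee := RingEquiv.ofBijective e he
    let πD : D →+* L := π0.comp ee.symm.toRingHom
    have hπDe : ∀ z, πD (e z) = π0 z := fun z => congrArg π0 (ee.symm_apply_apply z)
    have hπDC : ∀ x, πD (algebraMap C D x) = a (algebraMap C CC x) := fun x => by
      rw [← heC, hπDe, IsScalarTower.algebraMap_apply C T0 D0, ← hφ0C]
      exact RingHom.congr_fun hπ0 _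
    have hπDA : πD.comp (algebraMap A D) = lA := RingHom.ext fun x => by
      rw [RingHom.comp_apply, IsScalarTower.algebraMap_apply A C D, hπDC]
      exact RingHom.congr_fun haA x
    have hu1 : IsUnit (πD h') := by
      rw [hh', hπDC, IsScalarTower.algebraMap_apply C TC CC]
      exact (hhC.map _).map _
    obtain ⟨πE, hπE⟩ := exists_lift_compl (K.map (algebraMap D TD)) KL (IsLocalization.Away.lift h' hu1) (by
      exact ((map_map_eq K (IsLocalization.Away.lift_comp h' hu1)).trans
        ((congrArg (Ideal.map πD) hKA).trans (map_map_eq I hπDA))).le.trans hlA)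
    have hπED : πE.comp (algebraMap D E) = πD := by
      rw [IsScalarTower.algebraMap_eq D TD E, ← RingHom.comp_assoc, hπE, IsLocalization.Away.lift_comp]
    have hπEA : πE.comp (algebraMap A E) = lA := by
      rw [IsScalarTower.algebraMap_eq A D E, ← RingHom.comp_assoc, hπED, hπDA]
    have hu2 : IsUnit (πE (algebraMap A E f)) := by
      rw [← RingHom.comp_apply, hπEA]
      show IsUnit (a (ψa (algebraMap A CA f)))
      rw [hψaA, IsScalarTower.algebraMap_apply A TC CC]
      exact (hfC.map _).map _
    obtain ⟨π, hπ⟩ := exists_lift_compl (IE.map (algebraMap E TE)) KL (IsLocalization.Away.lift (algebraMap A E f) hu2) (by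
      exact ((map_map_eq IE (IsLocalization.Away.lift_comp _ hu2)).trans (map_map_eq I hπEA)).le.trans hlA)
    have hπE2 : π.comp (algebraMap E E2) = πE := by
      rw [IsScalarTower.algebraMap_eq E TE E2, ← RingHom.comp_assoc, hπ, IsLocalization.Away.lift_comp]
    have hcC : (π.comp ψC).comp (algebraMap C CC) = a.comp (algebraMap C CC) := by
      rw [RingHom.comp_assoc, hψC, ← RingHom.comp_assoc, hπE2, ← RingHom.comp_assoc, hπED]
      exact RingHom.ext hπDC
    have hcB : (π.comp ψB).comp (algebraMap B CB) = b.comp (algebraMap B CB) := by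
      rw [RingHom.comp_assoc, hψB, ← RingHom.comp_assoc, hπE2, ← RingHom.comp_assoc, hπED]
      refine RingHom.ext fun y => ?_
      show πD (e (algebraMap T0 D0 _)) = b (algebraMap B CB y)
      rw [hπDe, ← hφ0B]
      exact RingHom.congr_fun hπ0 _
    refine ⟨π, ?_, ?_⟩
    · refine hom_ext_away (Submonoid.powers (h * algebraMap A C f)) IC KL _ _ (fun x => RingHom.congr_fun hcC x) ?_
      show IC.map ((π.comp ψC).comp (algebraMap C CC)) ≤ KL
      rw [hcC]
      exact ((map_map_eq I haA)).le.trans hlA
    · refine hom_ext_away (Submonoid.powers (algebraMap A B f)) (I.map (algebraMap A B)) KL _ _ (fun x => RingHom.congr_fun hcB x) ?_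
      show (I.map (algebraMap A B)).map ((π.comp ψB).comp (algebraMap B CB)) ≤ KL
      rw [hcB]
      exact ((map_map_eq I hbA)).le.trans hlA
  have huniq : ∀ (L : Type u) [CommRing L] (KL : Ideal L) [IsHausdorff KL L] (π π' : E2 →+* L),
      (I.map (algebraMap A CA)).map (π.comp (algebraMap CA E2)) ≤ KL →
      π.comp (algebraMap CC E2) = π'.comp (algebraMap CC E2) →
      π.comp (algebraMap CB E2) = π'.comp (algebraMap CB E2) → π = π' := by
    intro L _ KL _ π π' hK0 hC hB
    have hlA : I.map ((π.comp (algebraMap E E2)).comp (algebraMap A E)) ≤ KL := by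
      refine le_trans (le_of_eq ?_) hK0
      refine (map_map_eq I (RingHom.ext fun x => ?_)).symm
      exact congrArg π (hψ0 x)
    have hT0 : ∀ t : T0, π (algebraMap E E2 (algebraMap D E (e (algebraMap T0 D0 t)))) =
        π' (algebraMap E E2 (algebraMap D E (e (algebraMap T0 D0 t)))) := fun t => by
      induction t using TensorProduct.induction_on with
      | zero => simp
      | add u v hu hv => simp only [map_add, hu, hv]
      | tmul x y =>
        have h : (x ⊗ₜ y : T0) = algebraMap C T0 x * (Algebra.TensorProduct.includeRight : B →ₐ[A] T0) y := by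
          show _ = (x ⊗ₜ[A] (1 : B)) * ((1 : C) ⊗ₜ[A] y)
          rw [Algebra.TensorProduct.tmul_mul_tmul, mul_one, one_mul]
        have hx : algebraMap E E2 (algebraMap D E (e (algebraMap T0 D0 (algebraMap C T0 x)))) = ψC (algebraMap C CC x) := by
          rw [← IsScalarTower.algebraMap_apply C T0 D0, heC, ← RingHom.comp_apply ψC, hψC]
          rfl
        have hy : algebraMap E E2 (algebraMap D E (e (algebraMap T0 D0 ((Algebra.TensorProduct.includeRight : B →ₐ[A] T0) y)))) =
            ψB (algebraMap B CB y) := by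
          rw [← RingHom.comp_apply ψB, hψB]
          rfl
        simp only [h, map_mul, hx, hy]
        rw [show π (ψC (algebraMap C CC x)) = π' (ψC (algebraMap C CC x)) from RingHom.congr_fun hC _,
          show π (ψB (algebraMap B CB y)) = π' (ψB (algebraMap B CB y)) from RingHom.congr_fun hB _]
    have hD : ((π.comp (algebraMap E E2)).comp (algebraMap D E)).comp e = ((π'.comp (algebraMap E E2)).comp (algebraMap D E)).comp e := by
      refine hom_ext_compl L0 (hL0A ▸ Ideal.FG.map (IsNoetherian.noetherian I) _) KL _ _ hT0 ?_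
      refine le_trans (le_of_eq ((congrArg (Ideal.map _) hL0A).trans (map_map_eq I (RingHom.ext fun x => ?_)))) hlA
      show π (algebraMap E E2 (algebraMap D E (e (algebraMap T0 D0 (algebraMap A T0 x))))) = π (algebraMap E E2 (algebraMap A E x))
      rw [← IsScalarTower.algebraMap_apply A T0 D0, heA, ← IsScalarTower.algebraMap_apply A D E]
    have hE : π.comp (algebraMap E E2) = π'.comp (algebraMap E E2) := by
      refine hom_ext_away (Submonoid.powers h') K KL _ _ (fun d => ?_) ?_
      · obtain ⟨z, rfl⟩ := he.2 d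
        exact RingHom.congr_fun hD z
      · refine ((congrArg (Ideal.map _) hKA).trans (map_map_eq I ?_)).le.trans hlA
        rw [RingHom.comp_assoc, ← IsScalarTower.algebraMap_eq]
    refine hom_ext_away (Submonoid.powers (algebraMap A E f)) IE KL _ _ (fun z => RingHom.congr_fun hE z) ?_
    exact (map_map_eq I rfl).le.trans hlA
  have hmain := flat_at_completed_tensor (CA := CA) (CC := CC) (CB := CB) (E := E2) (I.map (algebraMap A CA)) Q
    hfinC hflatB hex huniq
  -- back to `C`
  let CH := AdicCompletion (IC.map (algebraMap C Th)) Th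
  have h31 : (algebraMap E E2).comp ψh = ψC.comp ψ1 := by
    have hA : ∀ x : C, algebraMap E E2 (ψh (algebraMap C _ x)) = ψC (ψ1 (algebraMap C _ x)) := fun x => by
      rw [hψh, hψ1C, ← RingHom.comp_apply ψC, hψC]
      rfl
    refine hom_ext_away (Submonoid.powers h) IC K2 _ _ hA ?_
    rw [show ((algebraMap E E2).comp ψh).comp (algebraMap C _) = θC from RingHom.ext fun x => by
      show algebraMap E E2 (ψh (algebraMap C _ x)) = _
      rw [hψh]; rfl]
    exact ((map_map_eq I hθCA).trans hIK2).le
  let M := Localization.AtPrime Q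
  have hHM : ((algebraMap E2 M).comp (ψC.comp ψ1)).Flat := by
    rw [← RingHom.comp_assoc]
    exact RingHom.Flat.comp (flat_complMap w hwflat _ _ hJw) hmain
  let Mq := Localization.AtPrime q'.asIdeal
  letI : Algebra Mq M := (Localization.localRingHom q'.asIdeal Q (algebraMap E E2) hQE.symm).toAlgebra
  haveI : IsLocalHom (algebraMap Mq M) := Localization.isLocalHom_localRingHom _ _ _ _
  haveI : IsScalarTower E Mq M := IsScalarTower.of_algebraMap_eq fun z =>
    ((Localization.localRingHom_to_map q'.asIdeal Q (algebraMap E E2) hQE.symm z).trans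
      (IsScalarTower.algebraMap_apply E E2 M z).symm).symm
  haveI : Module.Flat E TE := IsLocalization.flat TE (Submonoid.powers (algebraMap A E f))
  haveI : Module.Flat E E2 := Module.Flat.trans E TE E2
  haveI : Module.Flat E M := Module.Flat.trans E E2 M
  haveI : Module.Flat Mq M := (Module.flat_iff_of_isLocalization (S := Mq) q'.asIdeal.primeCompl M).mpr inferInstance
  haveI : Module.FaithfullyFlat Mq M := Module.FaithfullyFlat.of_flat_of_isLocalHom
  letI : Algebra CH Mq := ((algebraMap E Mq).comp ψh).toAlgebra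
  letI : Algebra CH M := ((algebraMap Mq M).comp (algebraMap CH Mq)).toAlgebra
  haveI : IsScalarTower CH Mq M := IsScalarTower.of_algebraMap_eq' rfl
  haveI : Module.Flat CH M := by
    refine RingHom.flat_algebraMap_iff.mp ?_
    rw [RingHom.algebraMap_toAlgebra, show algebraMap CH Mq = (algebraMap E Mq).comp ψh from rfl, ← RingHom.comp_assoc,
      ← IsScalarTower.algebraMap_eq E Mq M, IsScalarTower.algebraMap_eq E E2 M, RingHom.comp_assoc, h31]
    exact hHM
  show Module.Flat CH Mq
  exact flat_of_faithfullyFlat CH Mq M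

end Groth.Agent.RigPt7
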