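import Mathlib
import Groth.Agent.RigPt7.Restricted
import Groth.Agent.TorsionBC7.Basic
import Groth.Agent.RegLoc6.RegEtale
import Groth.Agent.RegLoc6.Open
import Groth.Agent.CompleteNagata.Complete

/-! Restricted power series over a one-dimensional complete local domain form a regular algebra. -/

universe u

namespace Groth.Agent.RigPt7

open scoped TensorProduct
open IsLocalRing

variable {R : Type u} [CommRing R]

theorem regular_tensor_field [IsNoetherianRing R] (J : Ideal R) (n : ℕ) (k : Type u) [Field k] [Algebra R k]
    (hk : J.map (algebraMap R k) = ⊥) :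
    IsRegularRing (AdicCompletion (J.map (algebraMap R (MvPolynomial (Fin n) R))) (MvPolynomial (Fin n) R) ⊗[R] k) := by
  let T := MvPolynomial (Fin n) R
  let P := AdicCompletion (J.map (algebraMap R T)) T
  have hE : ∀ e : k, ∃ m : ℕ, ∀ r ∈ J ^ m, r • e = 0 := fun e => ⟨1, fun r hr => by
    rw [pow_one] at hr
    have : algebraMap R k r ∈ (⊥ : Ideal k) := hk ▸ Ideal.mem_map_of_mem _ hr
    rw [Algebra.smul_def, Ideal.mem_bot.mp this, zero_mul]⟩
  have hbij := TorsionBC7.rTensor_bijective_of_completion (R := R) (C := T) (B := P) (E := k) J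
    (IsNoetherian.noetherian J) AlgEquiv.refl hE
  let Φ : T ⊗[R] k →ₐ[R] P ⊗[R] k := Algebra.TensorProduct.map (IsScalarTower.toAlgHom R T P) (AlgHom.id R k)
  have hΦ : Function.Bijective Φ := by
    have : ⇑Φ = ⇑((IsScalarTower.toAlgHom R T P).toLinearMap.rTensor k) := funext fun z => by
      induction z using TensorProduct.induction_on with
      | zero => simp
      | tmul a b => simp [Φ]
      | add x y hx hy => rw [map_add, map_add, hx, hy]
    rw [this]
    exact hbij
  let e1 : k ⊗[R] T ≃+* MvPolynomial (Fin n) k := (MvPolynomial.algebraTensorAlgEquiv R k).toRingEquiv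
  let e2 : MvPolynomial (Fin n) k ≃+* P ⊗[R] k :=
    e1.symm.trans ((Algebra.TensorProduct.comm R k T).toRingEquiv.trans (RingEquiv.ofBijective Φ hΦ))
  exact IsRegularRing.of_ringEquiv e2

theorem regular_tensor_finite [IsDomain R] [IsNoetherianRing R] (J : Ideal R) [IsAdicComplete J R] (hJ : J ≠ ⊥)
    [Ring.KrullDimLE 1 R] (n : ℕ) (R' : Type u) [CommRing R'] [IsDomain R'] [Algebra R R'] [Module.Finite R R']
    [FaithfulSMul R R'] [IsIntegrallyClosed R'] :
    IsRegularRing (AdicCompletion (J.map (algebraMap R (MvPolynomial (Fin n) R))) (MvPolynomial (Fin n) R) ⊗[R] R') := by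
  let T := MvPolynomial (Fin n) R
  let P := AdicCompletion (J.map (algebraMap R T)) T
  have : IsNoetherianRing P := FComplLib.isNoetherianRing_adicCompletion _
  have : IsNoetherianRing R' := IsNoetherianRing.of_finite R R'
  let J' := J.map (algebraMap R R')
  have hJ' : J' ≠ ⊥ := fun h => hJ (by
    rwa [Ideal.map_eq_bot_iff_le_ker, (RingHom.injective_iff_ker_eq_bot _).mp (FaithfulSMul.algebraMap_injective R R'),
      le_bot_iff] at h)
  have hc' : IsAdicComplete J' R' := by
    have : IsAdicComplete J R' := Adic7.isAdicComplete_of_finite J R'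
    exact (IsAdicComplete.map_algebraMap_iff (S := R') J R').mpr this
  have hdim : Ring.KrullDimLE 1 R' := Ring.krullDimLE_one_iff_of_noZeroDivisors.mpr fun Q hQ0 hQ => by
    have := hQ
    have hne : Q.comap (algebraMap R R') ≠ ⊥ := Ideal.IsIntegral.comap_ne_bot _ hQ0
    exact Ideal.isMaximal_of_isIntegral_of_isMaximal_comap Q ((hQ.comap (algebraMap R R')).isMaximal_of_ne_bot hne)
  obtain ⟨m₀, hm₀⟩ := Ideal.exists_maximal R'
  haveI : IsLocalRing R' := IsLocalRing.of_unique_max_ideal ⟨m₀, hm₀, fun m hm =>
    (eq_radical_of_isMaximal J' hJ' m hm).trans (eq_radical_of_isMaximal J' hJ' m₀ hm₀).symm⟩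
  have hJm : J' ≤ maximalIdeal R' := le_maximalIdeal fun h => by
    have := IsAdicComplete.le_jacobson_bot (R := R') J'
    rw [h, IsLocalRing.jacobson_eq_maximalIdeal ⊥ bot_ne_top] at this
    exact (maximalIdeal.isMaximal R').ne_top (top_le_iff.mp this)
  have hnf : ¬ IsField R' := fun hf => by
    rw [isField_iff_maximalIdeal_eq] at hf
    exact hJ' (le_bot_iff.mp (hf ▸ hJm))
  haveI hDed : IsDedekindDomain R' := by
    haveI : Ring.DimensionLEOne R' := ⟨fun hp hp' => hp'.isMaximal_of_ne_bot hp⟩
    haveI : IsDedekindRing R' := IsDedekindRing.mk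
    exact {}
  haveI : IsDiscreteValuationRing R' :=
    ((IsDiscreteValuationRing.TFAE R' hnf).out 0 2 (by rfl) (by rfl)).mpr hDed
  obtain ⟨π, hπ⟩ := IsDiscreteValuationRing.exists_irreducible R'
  have hspan : maximalIdeal R' = Ideal.span {π} := hπ.maximalIdeal_eq
  let S := P ⊗[R] R'
  haveI : IsNoetherianRing S := IsNoetherianRing.of_finite P S
  let iR : R' →ₐ[R] S := Algebra.TensorProduct.includeRight
  let x : S := iR π
  -- `x` is regular
  have hreg : IsSMulRegular S x := by
    haveI : Module.Flat T P := inferInstance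
    haveI : Module.Flat R P := Module.Flat.trans R T P
    have hinj : Function.Injective (((LinearMap.mulLeft R π) : R' →ₗ[R] R').lTensor P) :=
      Module.Flat.lTensor_preserves_injective_linearMap _ (mul_right_injective₀ hπ.ne_zero)
    have heq : ∀ z : S, x • z = ((LinearMap.mulLeft R π) : R' →ₗ[R] R').lTensor P z := fun z => by
      induction z using TensorProduct.induction_on with
      | zero => simp
      | tmul a b =>
        show ((1 : P) ⊗ₜ[R] π) * (a ⊗ₜ[R] b) = _
        rw [Algebra.TensorProduct.tmul_mul_tmul, one_mul]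
        rfl
      | add u v hu hv => rw [smul_add, hu, hv, map_add]
    intro a b hab
    simp only [heq] at hab
    exact hinj hab
  -- the special fibre
  have hfib : IsRegularRing (S ⧸ Ideal.span {x}) := by
    let k := R' ⧸ maximalIdeal R'
    let := Ideal.Quotient.field (maximalIdeal R')
    have hk : J.map (algebraMap R k) = ⊥ := by
      rw [IsScalarTower.algebraMap_eq R R' k, ← Ideal.map_map, Ideal.map_eq_bot_iff_le_ker, Ideal.Quotient.algebraMap_eq,
        Ideal.mk_ker]
      exact hJm
    have := regular_tensor_field J n k hk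
    let g : R' →ₐ[R] k := Ideal.Quotient.mkₐ R (maximalIdeal R')
    let Ψ : S →ₐ[R] P ⊗[R] k := Algebra.TensorProduct.map (AlgHom.id R P) g
    have hΨ : Function.Surjective Ψ := by
      intro z
      induction z using TensorProduct.induction_on with
      | zero => exact ⟨0, map_zero _⟩
      | tmul a b =>
        obtain ⟨b, rfl⟩ := Ideal.Quotient.mk_surjective b
        exact ⟨a ⊗ₜ b, Algebra.TensorProduct.map_tmul _ _ _ _⟩
      | add u v hu hv =>
        obtain ⟨a, rfl⟩ := hu
        obtain ⟨b, rfl⟩ := hv
        exact ⟨a + b, map_add _ _ _⟩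
    have hker : RingHom.ker Ψ = Ideal.span {x} := by
      rw [Algebra.TensorProduct.lTensor_ker g (Ideal.Quotient.mkₐ_surjective R _)]
      have hg : RingHom.ker g = Ideal.span {π} := by rw [← hspan]; exact Ideal.Quotient.mkₐ_ker R _
      rw [hg, Ideal.map_span, Set.image_singleton]
    exact IsRegularRing.of_ringEquiv (((Ideal.quotEquivOfEq hker.symm).trans
      (RingHom.quotientKerEquivOfSurjective hΨ)).symm)
  refine isRegularRing_iff.mpr fun Q hQ => ?_
  obtain ⟨M, hM, hQM⟩ := Ideal.exists_le_maximal Q hQ.ne_top
  refine RegLoc6.regular_of_le hQM ?_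
  -- `x` lies in every maximal ideal
  have hxM : x ∈ M := by
    have hcP : IsAdicComplete ((J.map (algebraMap R T)).map (algebraMap T P)) P :=
      AdicCompletion.isAdicComplete_self _ (IsNoetherian.noetherian _)
    have : (M.comap (algebraMap P S)).IsMaximal := Ideal.isMaximal_comap_of_isIntegral_of_isMaximal M
    have hJP : J.map (algebraMap R P) ≤ M.comap (algebraMap P S) := by
      rw [IsScalarTower.algebraMap_eq R T P, ← Ideal.map_map]
      exact (IsAdicComplete.le_jacobson_bot _).trans (by rw [Ideal.jacobson]; exact sInf_le ⟨bot_le, this⟩)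
    have hJS : J'.map iR.toRingHom ≤ M := by
      rw [Ideal.map_map, Ideal.map_le_iff_le_comap]
      intro a ha
      have := hJP (Ideal.mem_map_of_mem (algebraMap R P) ha)
      show iR (algebraMap R R' a) ∈ M
      rw [AlgHom.commutes, IsScalarTower.algebraMap_apply R P S]
      exact this
    obtain ⟨N, hN⟩ := IsDiscreteValuationRing.ideal_eq_span_pow_irreducible hJ' hπ
    have := hJS (Ideal.mem_map_of_mem iR.toRingHom (hN.ge (Ideal.subset_span rfl) : π ^ N ∈ J'))
    rw [map_pow] at this
    exact hM.isPrime.mem_of_pow_mem N this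
  have := hM.isPrime
  let M' := M.map (Ideal.Quotient.mk (Ideal.span {x}))
  have hker : RingHom.ker (Ideal.Quotient.mk (Ideal.span {x})) ≤ M := by
    rw [Ideal.mk_ker, Ideal.span_singleton_le_iff_mem]; exact hxM
  have : M'.IsPrime := Ideal.map_isPrime_of_surjective Ideal.Quotient.mk_surjective hker
  obtain ⟨e⟩ := RegLoc6.exists_quotLocalEquiv (Ideal.span {x}) M M' (by
    rw [Ideal.comap_map_of_surjective _ Ideal.Quotient.mk_surjective, ← RingHom.ker_eq_comap_bot, sup_eq_left.mpr hker])
  let e' := ((Ideal.quotEquivOfEq (by rw [Ideal.map_span, Set.image_singleton] :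
    Ideal.span {algebraMap S (Localization.AtPrime M) x} = (Ideal.span {x}).map (algebraMap S _))).trans e)
  haveI := IsRegularLocalRing.of_ringEquiv e'.symm
  refine RegLoc6.of_quotient (x := algebraMap S (Localization.AtPrime M) x) ?_ ?_
  · rw [← Localization.AtPrime.map_eq_maximalIdeal]
    exact Ideal.mem_map_of_mem _ hxM
  · exact IsSMulRegular.of_isLocalization (Localization.AtPrime M) M.primeCompl hreg

theorem isRegularHom_completion [IsDomain R] [IsLocalRing R] [IsNoetherianRing R] (J : Ideal R) [IsAdicComplete J R]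
    [IsAdicComplete (maximalIdeal R) R] (hJ : J ≠ ⊥) [Ring.KrullDimLE 1 R] (n : ℕ) :
    CAlg.IsRegularHom R (AdicCompletion (J.map (algebraMap R (MvPolynomial (Fin n) R))) (MvPolynomial (Fin n) R)) := by
  let T := MvPolynomial (Fin n) R
  let P := AdicCompletion (J.map (algebraMap R T)) T
  refine ⟨Module.Flat.trans R T P, fun p _ => ?_⟩
  -- it suffices to treat all finite extensions of the residue field
  suffices key : ∀ (k' : Type u) [Field k'] [Algebra R k'] [Algebra p.ResidueField k']
      [IsScalarTower R p.ResidueField k'], Module.Finite p.ResidueField k' → IsRegularRing (P ⊗[R] k') by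
    have hgeom : CAlg.IsGeometricallyRegular p.ResidueField (p.Fiber P) := by
      intro k' _ _ hfin
      let : Algebra R k' := ((algebraMap p.ResidueField k').comp (algebraMap R p.ResidueField)).toAlgebra
      haveI : IsScalarTower R p.ResidueField k' := IsScalarTower.of_algebraMap_eq' rfl
      have := key k' hfin
      exact IsRegularRing.of_ringEquiv ((Algebra.TensorProduct.comm R P k').toRingEquiv.trans
        (Algebra.TensorProduct.cancelBaseChange R p.ResidueField p.ResidueField k' P).toRingEquiv.symm)
    refine ⟨?_, hgeom⟩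
    have h0 : IsRegularRing (TensorProduct p.ResidueField p.ResidueField (p.Fiber P)) := hgeom p.ResidueField inferInstance
    haveI hN : IsNoetherianRing (TensorProduct p.ResidueField p.ResidueField (p.Fiber P)) := by
      rcases h0 with ⟨h⟩
      infer_instance
    exact isNoetherianRing_of_ringEquiv _ (Algebra.TensorProduct.lid p.ResidueField (p.Fiber P)).toRingEquiv
  intro k' _ _ _ _ hfin
  have hker : RingHom.ker (algebraMap R k') = p := by
    rw [IsScalarTower.algebraMap_eq R p.ResidueField k',
      RingHom.ker_comp_of_injective _ (algebraMap p.ResidueField k').injective]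
    exact Ideal.ker_algebraMap_residueField p
  by_cases hp : p = ⊥
  · subst hp
    let K := FractionRing R
    let eK : K ≃ₐ[R] (⊥ : Ideal R).ResidueField := FractionRing.algEquiv R _
    let : Algebra K (⊥ : Ideal R).ResidueField := eK.toRingEquiv.toRingHom.toAlgebra
    let : Algebra K k' := ((algebraMap (⊥ : Ideal R).ResidueField k').comp (algebraMap K _)).toAlgebra
    haveI : IsScalarTower K (⊥ : Ideal R).ResidueField k' := IsScalarTower.of_algebraMap_eq' rfl
    haveI : IsScalarTower R K k' := IsScalarTower.of_algebraMap_eq fun r => by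
      show _ = algebraMap (⊥ : Ideal R).ResidueField k' (eK (algebraMap R K r))
      rw [eK.commutes, ← IsScalarTower.algebraMap_apply]
    haveI : Module.Finite K (⊥ : Ideal R).ResidueField :=
      Module.Finite.of_surjective (Algebra.linearMap K _) eK.surjective
    haveI : FiniteDimensional K k' := Module.Finite.trans (⊥ : Ideal R).ResidueField k'
    have hN2 := CompleteNagata.isN2_of_complete R k' inferInstance
    let R' := integralClosure R k'
    haveI : IsFractionRing R' k' := integralClosure.isFractionRing_of_finite_extension K k'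
    haveI : IsIntegrallyClosed R' := integralClosure.isIntegrallyClosedOfFiniteExtension K
    haveI : Module.Finite R R' := hN2
    haveI : FaithfulSMul R R' := by
      refine (faithfulSMul_iff_algebraMap_injective R R').mpr fun a b hab => ?_
      have h : algebraMap R k' a = algebraMap R k' b := congrArg Subtype.val hab
      exact (RingHom.injective_iff_ker_eq_bot _).mpr hker h
    haveI := regular_tensor_finite J hJ n R'
    let Ψ : P ⊗[R] R' →ₐ[P] P ⊗[R] k' := Algebra.TensorProduct.map (AlgHom.id P P) (IsScalarTower.toAlgHom R R' k')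
    let : Algebra (P ⊗[R] R') (P ⊗[R] k') := Ψ.toRingHom.toAlgebra
    haveI : IsScalarTower P (P ⊗[R] R') (P ⊗[R] k') := IsScalarTower.of_algebraMap_eq fun x => (Ψ.commutes x).symm
    haveI : IsLocalization ((nonZeroDivisors R').map (Algebra.TensorProduct.includeRight (R := R) (A := P))) (P ⊗[R] k') := by
      refine IsLocalization.tensorProduct_tensorProduct_right R P (nonZeroDivisors R') k' (RingHom.ext fun b => ?_)
      simp [RingHom.algebraMap_toAlgebra, Ψ]
    haveI : IsNoetherianRing (P ⊗[R] k') := IsLocalization.isNoetherianRing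
      ((nonZeroDivisors R').map (Algebra.TensorProduct.includeRight (R := R) (A := P))) _ inferInstance
    exact isRegularRing_iff.mpr fun Q hQ => (RegLoc6.regular_iff_localization
      ((nonZeroDivisors R').map (Algebra.TensorProduct.includeRight (R := R) (A := P))) _ Q).mpr inferInstance
  · refine regular_tensor_field J n k' ?_
    rw [Ideal.map_eq_bot_iff_le_ker, hker]
    have hpmax : p.IsMaximal := Ideal.IsPrime.isMaximal_of_ne_bot inferInstance hp
    exact (IsAdicComplete.le_jacobson_bot J).trans (by rw [Ideal.jacobson]; exact sInf_le ⟨bot_le, hpmax⟩)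

end Groth.Agent.RigPt7
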